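import Cfsg.Agent.Omega.TT.Steps

/-!
# Theorem E, steps (2)-(4): the groups `B_k` (helper492)
-/

set_option autoImplicit false

namespace Cfsg.Agent.Omega.TT

open Subgroup Cfsg.Agent.ZN Equiv Cfsg.Agent.MinSimple.MinParabolic Cfsg.Agent.MinSimple.VModule
open Cfsg.Agent.MinSimple.Basic

universe u

variable {G : Type u} [Group G] {V : Subgroup G} {z : Fin 5 → G} {S : Subgroup G}

set_option maxRecDepth 40000 in
theorem cent_dec : ∀ σ ∈ ([1, swap 0 1 * swap 2 3, swap 0 2 * swap 1 3,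
      swap 0 3 * swap 1 2] : List (Perm (Fin 5))),
      ((symmDiff {0} {1} : Finset (Fin 5)).map σ.toEmbedding = symmDiff {0} {1} ∨
        (symmDiff {0} {1} : Finset (Fin 5)).map σ.toEmbedding = (symmDiff {0} {1})ᶜ) →
      ((symmDiff {0} {2} : Finset (Fin 5)).map σ.toEmbedding = symmDiff {0} {2} ∨
        (symmDiff {0} {2} : Finset (Fin 5)).map σ.toEmbedding = (symmDiff {0} {2})ᶜ) → σ = 1 := by
  decide

set_option maxRecDepth 40000 in
theorem fix_dec : ∀ s : Finset (Fin 5),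
      (s.map (swap 0 1 * swap 2 3 : Perm (Fin 5)).toEmbedding = s ∨
        s.map (swap 0 1 * swap 2 3 : Perm (Fin 5)).toEmbedding = sᶜ) →
      (s.map (swap 0 2 * swap 1 3 : Perm (Fin 5)).toEmbedding = s ∨
        s.map (swap 0 2 * swap 1 3 : Perm (Fin 5)).toEmbedding = sᶜ) →
      (s = ∅ ∨ s = Finset.univ) ∨ (s = {4} ∨ s = {4}ᶜ) := by
  decide

theorem isFour_mem {σ : Perm (Fin 5)} (hσ : IsFour σ) : σ ∈ ([1, swap 0 1 * swap 2 3, swap 0 2 * swap 1 3,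
      swap 0 3 * swap 1 2] : List (Perm (Fin 5))) := by
  rcases hσ with rfl | rfl | rfl | rfl <;> simp

theorem IsFour.fix {σ : Perm (Fin 5)} (hσ : IsFour σ) : σ 4 = 4 := by
  rcases hσ with rfl | rfl | rfl | rfl <;> decide

theorem norm_o2 (N : Subgroup G) : normalizer (N : Set G) ≤ normalizer (o2 N : Set G) :=
  norm_iff fun g hg x hx => by
    have e : N.map (MulAut.conj g).toMonoidHom = N := by
      ext y
      constructor
      · rintro ⟨n, hn, rfl⟩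
        exact (mem_normalizer_iff.1 hg n).1 hn
      · intro hy
        refine ⟨g⁻¹ * y * g⁻¹⁻¹, (mem_normalizer_iff.1 (inv_mem hg) y).1 hy, ?_⟩
        simp; group
    have h1 := MinPar.o2_map_equiv (MulAut.conj g) N
    rw [e] at h1
    rw [h1]
    exact ⟨x, hx, rfl⟩

namespace Hyp

variable (h : Hyp V z S)

include h

/-- `C_Q(V_z) = C_Q(V)` -/
theorem mem_cent_of_comm {q : G} (hq : q ∈ qq z 4) (h1 : q * (z 0 * z 1) = z 0 * z 1 * q)
    (h2 : q * (z 0 * z 2) = z 0 * z 2 * q) : q ∈ centralizer (V : Set G) := by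
  obtain ⟨σ, hσ, hqσ⟩ := h.Q_four hq
  rw [← mul_inv_eq_iff_eq_mul, h.ev_pr, h.pts.ev_conj hqσ, h.pts.ev_inj] at h1 h2
  have := cent_dec σ (isFour_mem hσ) h1 h2
  exact h.pts.mem_cent (this ▸ hqσ)

/-- `C_V(V₄) = ⟨z⟩` -/
theorem fix_of_comm {v g k : G} (hv : v ∈ V) (hg : Act z g (swap 0 1 * swap 2 3))
    (hk : Act z k (swap 0 2 * swap 1 3)) (h1 : g * v = v * g) (h2 : k * v = v * k) : v = 1 ∨ v = z 4 := by
  obtain ⟨s, rfl⟩ := h.pts.exists_ev hv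
  rw [← mul_inv_eq_iff_eq_mul, h.pts.ev_conj hg, h.pts.ev_inj] at h1
  rw [← mul_inv_eq_iff_eq_mul, h.pts.ev_conj hk, h.pts.ev_inj] at h2
  rcases fix_dec s h1 h2 with h3 | h3
  · left; exact h.pts.ev_eq_one.2 h3
  · right; rw [← h.pts.ev_singleton, h.pts.ev_inj]; exact h3

/-- `B ≤ C(V)` for the point `z 4`. -/
theorem bb_le_cent_four : bb z 4 ≤ centralizer (V : Set G) := fun b hb =>
  h.mem_cent_of_comm (mem_inf.1 hb).1
    ((mem_centralizer_iff.1 (mem_inf.1 hb).2 _ (pr_mem_ww (by decide) (by decide))).symm)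
    ((mem_centralizer_iff.1 (mem_inf.1 hb).2 _ (pr_mem_ww (by decide) (by decide))).symm)

omit h in
theorem conj_cent {g x : G} (hg : g ∈ normalizer (V : Set G)) (hx : x ∈ centralizer (V : Set G)) :
    g * x * g⁻¹ ∈ centralizer (V : Set G) := by
  rw [mem_centralizer_iff] at hx ⊢
  intro v hv
  have h1 := (mem_normalizer_iff.1 (inv_mem hg) v).1 hv
  have h2 := hx _ h1
  calc v * (g * x * g⁻¹) = g * ((g⁻¹ * v * g⁻¹⁻¹) * x) * g⁻¹ := by group
    _ = _ := by rw [h2]; group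

theorem bb_le_cent (k : Fin 5) : bb z k ≤ centralizer (V : Set G) := by
  intro x hx
  obtain ⟨σ, hσ, hk⟩ := exists_alt_move k 4
  obtain ⟨g, hg, hgσ⟩ := h.pts.alt σ hσ
  have h1 := conj_mem_bb hgσ hx
  rw [hk] at h1
  have h2 := conj_cent (inv_mem hg) (h.bb_le_cent_four h1)
  have e : g⁻¹ * (g * x * g⁻¹) * g⁻¹⁻¹ = x := by group
  rwa [e] at h2

theorem cent_le_cc (k : Fin 5) : centralizer (V : Set G) ≤ cc z k := fun _ hx =>
  mem_cc.2 ((mem_centralizer_iff.1 hx _ (h.pts.mem k)).symm)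

/-- `V ∩ B = ⟨z⟩`. -/
theorem V_inf_bb [Finite G] {v : G} (hv : v ∈ V) (hb : v ∈ bb z 4) : v = 1 ∨ v = z 4 := by
  obtain ⟨w1, hw1, hw1'⟩ := h.exists_W (σ := swap 0 1 * swap 2 3) (Or.inr (Or.inl rfl))
  obtain ⟨w2, hw2, hw2'⟩ := h.exists_W (σ := swap 0 2 * swap 1 3) (Or.inr (Or.inr (Or.inl rfl)))
  exact h.fix_of_comm hv hw1' hw2' (mem_centralizer_iff.1 (mem_inf.1 hb).2 _ hw1)
    (mem_centralizer_iff.1 (mem_inf.1 hb).2 _ hw2)

/-- `z k ∈ W_k` -/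
theorem z_mem_ww : z 4 ∈ ww z 4 := by
  have h1 := mul_mem (pr_mem_ww (z := z) (k := 4) (i := 0) (j := 1) (by decide) (by decide))
    (pr_mem_ww (z := z) (k := 4) (i := 2) (j := 3) (by decide) (by decide))
  have e : z 0 * z 1 * (z 2 * z 3) = z 4 := by rw [h.pts.four_eq]; group
  rwa [e] at h1

theorem z_mem_bb_four : z 4 ∈ bb z 4 :=
  mem_inf.2 ⟨h.z_mem_Q, mem_centralizer_iff.2 fun _ hw => h.Q_comm_z (h.ww_le_Q hw)⟩

theorem z_mem_bb (k : Fin 5) : z k ∈ bb z k := by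
  obtain ⟨σ, hσ, hk⟩ := exists_alt_move 4 k
  obtain ⟨g, hg, hgσ⟩ := h.pts.alt σ hσ
  have h1 := conj_mem_bb hgσ h.z_mem_bb_four
  rwa [hgσ 4, hk] at h1

/-- `W_k` is transitive on the other points. -/
theorem ww_move [Finite G] {k i j : Fin 5} (hi : i ≠ k) (hj : j ≠ k) :
    ∃ w ∈ ww z k, ∃ σ, Act z w σ ∧ σ i = j := by
  obtain ⟨τ, hτ, hk⟩ := exists_alt_move 4 k
  obtain ⟨g, hg, hgτ⟩ := h.pts.alt τ hτ
  have hi' : τ⁻¹ i ≠ 4 := fun e => hi (by rw [← hk, ← e]; simp)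
  have hj' : τ⁻¹ j ≠ 4 := fun e => hj (by rw [← hk, ← e]; simp)
  obtain ⟨σ, hσ, hij⟩ := four_move _ _ hi' hj'
  obtain ⟨w, hw, hwσ⟩ := h.exists_W hσ
  refine ⟨g * w * g⁻¹, hk ▸ conj_mem_ww hgτ hw, τ * σ * τ⁻¹, hwσ.conj hgτ, ?_⟩
  show τ (σ (τ⁻¹ i)) = j
  rw [hij]; simp

/-- (l) -/
theorem bb_inf_le [Finite G] {i j k : Fin 5} (hij : i ≠ j) {x : G} (hi : x ∈ bb z i) (hj : x ∈ bb z j) :
    x ∈ bb z k := by
  by_cases h1 : k = j
  · rwa [h1]
  obtain ⟨w, hw, σ, hwσ, hσ⟩ := h.ww_move (k := j) hij h1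
  have h2 := conj_mem_bb hwσ hi
  rw [hσ] at h2
  have h3 : w * x = x * w := mem_centralizer_iff.1 (mem_inf.1 hj).2 w hw
  rwa [← mul_inv_eq_iff_eq_mul.2 h3]

omit h in
theorem bb_isPGroup (k : Fin 5) : IsPGroup 2 (bb z k) := (o2_isPGroup _).to_le inf_le_left

/-- `[B, Y] = 1` -/
theorem Y_le_cent_bb : yy V z 4 ≤ centralizer (bb z 4 : Set G) := by
  rw [yy, closure_le]
  rintro _ ⟨c, hc, v, hv, rfl⟩
  refine mem_centralizer_iff.2 fun b hb => ?_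
  have h1 := conj_bb (inv_mem hc) hb
  have h2 := mem_centralizer_iff.1 (h.bb_le_cent 4 h1) v hv
  calc b * (c * v * c⁻¹) = c * ((c⁻¹ * b * c⁻¹⁻¹) * v) * c⁻¹ := by group
    _ = c * (v * (c⁻¹ * b * c⁻¹⁻¹)) * c⁻¹ := by rw [h2]
    _ = _ := by group

/-- (4): `⋂ B_k = 1`. -/
theorem iInf_bb [Finite G] : (⨅ k, bb z k) = ⊥ := by
  by_contra hne
  set B := ⨅ k, bb z k with hB
  have hB2 : IsPGroup 2 B := (bb_isPGroup 4).to_le (iInf_le _ 4)
  have hLB : normalizer (V : Set G) ≤ normalizer (B : Set G) := norm_iff fun g hg x hx => by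
    obtain ⟨σ, hσ⟩ := h.pts.perm g hg
    rw [hB, mem_iInf] at hx ⊢
    intro k
    have h1 := conj_mem_bb hσ (hx (σ⁻¹ k))
    have e : σ (σ⁻¹ k) = k := by simp
    rwa [e] at h1
  set M := normalizer (B : Set G) with hM
  have hRS : o2 M ≤ S := h.max _ (o2_isPGroup _) ((h.norm.trans hLB).trans (le_normalizer_o2 _))
  have hRV : o2 M ≤ centralizer (V : Set G) := by
    intro x hx
    rw [h.pts.gen, centralizer_closure, mem_centralizer_iff]
    rintro _ ⟨k, rfl⟩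
    obtain ⟨σ, hσ, hk⟩ := exists_alt_move k 4
    obtain ⟨g, hg, hgσ⟩ := h.pts.alt σ hσ
    have h1 : g * x * g⁻¹ ∈ o2 M := conj_mem_o2 (hLB hg) hx
    have h2 := mem_cc.1 (h.fix (hRS h1))
    rw [← hk, ← hgσ k] at h2
    calc z k * x = g⁻¹ * ((g * z k * g⁻¹) * (g * x * g⁻¹)) * g := by group
      _ = g⁻¹ * ((g * x * g⁻¹) * (g * z k * g⁻¹)) * g := by rw [h2]
      _ = _ := by group
  have hVM : V ≤ M := le_normalizer.trans hLB
  have hVR : V ≤ o2 M := fun v hv => h.char2 B hB2 hne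
    ⟨hVM hv, mem_centralizer_iff.2 fun r hr => (mem_centralizer_iff.1 (hRV hr) v hv).symm⟩
  have hYM : yy V z 4 ≤ M := (h.Y_le_cent_bb.trans (centralizer_le (show (B : Set G) ⊆ bb z 4 from iInf_le (bb z) 4))).trans
    (centralizer_le_normalizer _)
  have hU : V ≤ o2 (yy V z 4) := by
    refine (le_inf h.V_le_Y hVR).trans (le_o2 inf_le_left ((o2_isPGroup M).to_le inf_le_right) ?_)
    exact norm_iff fun g hg x hx => mem_inf.2 ⟨mul_mem (mul_mem hg (mem_inf.1 hx).1) (inv_mem hg),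
      conj_mem_o2 (hYM hg) (mem_inf.1 hx).2⟩
  refine h.not_le (hU.trans (le_o2 ((o2_le _).trans h.Y_le_C) (o2_isPGroup _) ?_))
  have hn : cc z 4 ≤ normalizer (yy V z 4 : Set G) := norm_iff fun g hg x hx => conj_yy hg hx
  exact hn.trans (norm_o2 _)

theorem bb_inf [Finite G] {i j : Fin 5} (hij : i ≠ j) {x : G} (hi : x ∈ bb z i) (hj : x ∈ bb z j) : x = 1 := by
  have h1 : x ∈ (⨅ k, bb z k) := mem_iInf.2 fun k => h.bb_inf_le hij hi hj
  rw [h.iInf_bb] at h1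
  exact mem_bot.1 h1

theorem bb_comm [Finite G] {i j : Fin 5} (hij : i ≠ j) {x y : G} (hx : x ∈ bb z i) (hy : y ∈ bb z j) :
    x * y = y * x := by
  have h1 : x * y * x⁻¹ * y⁻¹ ∈ bb z j :=
    mul_mem (conj_bb (h.cent_le_cc j (h.bb_le_cent i hx)) hy) (inv_mem hy)
  have h2 : x * (y * x⁻¹ * y⁻¹) ∈ bb z i :=
    mul_mem hx (conj_bb (h.cent_le_cc i (h.bb_le_cent j hy)) (inv_mem hx))
  have e : x * (y * x⁻¹ * y⁻¹) = x * y * x⁻¹ * y⁻¹ := by group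
  rw [e] at h2
  have h3 := h.bb_inf hij h2 h1
  rw [mul_inv_eq_one, mul_inv_eq_iff_eq_mul] at h3
  exact h3

end Hyp

end Cfsg.Agent.Omega.TT
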