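import Cfsg.Agent.Omega.TT.Bb
import Cfsg.Agent.Co2Type.Quad

/-!
# Theorem E, steps (5)-(7) (helper492)

`Hyp.large` : `O₂(C_G(z))` is extraspecial with centre `⟨z⟩`.
-/

set_option autoImplicit false

namespace Cfsg.Agent.Omega.TT

open Subgroup Cfsg.Agent.ZN Equiv Cfsg.Agent.MinSimple.MinParabolic Cfsg.Agent.MinSimple.VModule
open Cfsg.Agent.MinSimple.Basic

universe u

variable {G : Type u} [Group G] {V : Subgroup G} {z : Fin 5 → G} {S : Subgroup G}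

/-- The elements moving `W` inside `C(W)` and centralising `B`. -/
def kk (z : Fin 5 → G) : Subgroup G where
  carrier := {g | g ∈ cc z 4 ∧ (∀ w ∈ ww z 4, g * w * g⁻¹ * w⁻¹ ∈ centralizer (ww z 4 : Set G)) ∧
    ∀ b ∈ bb z 4, g * b = b * g}
  one_mem' := ⟨one_mem _, fun w _ => by simp, fun b _ => by simp⟩
  mul_mem' := by
    rintro x y ⟨hx1, hx2, hx3⟩ ⟨hy1, hy2, hy3⟩
    refine ⟨mul_mem hx1 hy1, fun w hw => ?_, fun b hb => ?_⟩
    · have e : x * y * w * (x * y)⁻¹ * w⁻¹ = (x * (y * w * y⁻¹ * w⁻¹) * x⁻¹) * (x * w * x⁻¹ * w⁻¹) := by group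
      rw [e]
      refine mul_mem (mem_centralizer_iff.2 fun u hu => ?_) (hx2 w hw)
      have h1 := mem_centralizer_iff.1 (hy2 w hw) _ (Hyp.conj_ww (inv_mem hx1) hu)
      calc u * (x * (y * w * y⁻¹ * w⁻¹) * x⁻¹)
          = x * ((x⁻¹ * u * x⁻¹⁻¹) * (y * w * y⁻¹ * w⁻¹)) * x⁻¹ := by group
        _ = x * ((y * w * y⁻¹ * w⁻¹) * (x⁻¹ * u * x⁻¹⁻¹)) * x⁻¹ := by rw [h1]
        _ = _ := by group
    · rw [mul_assoc, hy3 b hb, ← mul_assoc, hx3 b hb, mul_assoc]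
  inv_mem' := by
    rintro x ⟨hx1, hx2, hx3⟩
    refine ⟨inv_mem hx1, fun w hw => ?_, fun b hb => Commute.inv_left (hx3 b hb)⟩
    have e : x⁻¹ * w * x⁻¹⁻¹ * w⁻¹ = x⁻¹ * (x * w * x⁻¹ * w⁻¹)⁻¹ * x := by group
    rw [e]
    refine mem_centralizer_iff.2 fun u hu => ?_
    have h1 := mem_centralizer_iff.1 (inv_mem (hx2 w hw)) _ (Hyp.conj_ww hx1 hu)
    calc u * (x⁻¹ * (x * w * x⁻¹ * w⁻¹)⁻¹ * x)
        = x⁻¹ * ((x * u * x⁻¹) * (x * w * x⁻¹ * w⁻¹)⁻¹) * x := by group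
      _ = x⁻¹ * ((x * w * x⁻¹ * w⁻¹)⁻¹ * (x * u * x⁻¹)) * x := by rw [h1]
      _ = _ := by group

namespace Hyp

variable [Finite G] (h : Hyp V z S)

include h

omit [Finite G] in
theorem zz (x : G) : x * z 4 * z 4 = x := by rw [mul_assoc, h.pts.sq 4, mul_one]

/-- (5) -/
theorem bb_eq_one {b : G} (hb : b ∈ bb z 0) (hw : ∀ w ∈ ww z 4, w * b * w⁻¹ = b ∨ w * b * w⁻¹ = b * z 4) :
    b = 1 := by
  obtain ⟨w1, hw1, hw1'⟩ := h.exists_W (σ := swap 0 1 * swap 2 3) (Or.inr (Or.inl rfl))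
  obtain ⟨w2, hw2, hw2'⟩ := h.exists_W (σ := swap 0 2 * swap 1 3) (Or.inr (Or.inr (Or.inl rfl)))
  have e1 : (swap 0 1 * swap 2 3 : Perm (Fin 5)) 0 = 1 := by decide
  have e2 : (swap 0 2 * swap 1 3 : Perm (Fin 5)) 0 = 2 := by decide
  have h1 := conj_mem_bb hw1' hb
  have h2 := conj_mem_bb hw2' hb
  rw [e1] at h1
  rw [e2] at h2
  rcases hw w1 hw1 with h3 | h3
  · rw [h3] at h1
    exact h.bb_inf (i := 0) (j := 1) (by decide) hb h1
  rcases hw w2 hw2 with h4 | h4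
  · rw [h4] at h2
    exact h.bb_inf (i := 0) (j := 2) (by decide) hb h2
  rw [h3] at h1
  rw [h4] at h2
  have h5 := h.bb_inf (i := 1) (j := 2) (by decide) h1 h2
  have h6 : b = z 4 := by
    have := eq_inv_of_mul_eq_one_left h5
    rwa [h.pts.inv_eq] at this
  rw [h6] at hb
  exact absurd (h.bb_inf (i := 0) (j := 4) (by decide) hb (h.z_mem_bb 4)) (h.pts.ne_one 4)

/-- `[B₁, C_W(V)] = 1`. -/
theorem bb_comm_W {b w : G} (hb : b ∈ bb z 0) (hw : w ∈ ww z 4) (hwV : w ∈ centralizer (V : Set G)) :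
    b * w = w * b := by
  have hbC : b ∈ cc z 4 := h.cent_le_cc 4 (h.bb_le_cent 0 hb)
  have h1 : b * w * b⁻¹ * w⁻¹ ∈ ww z 4 := mul_mem (conj_ww hbC hw) (inv_mem hw)
  have h2 : b * (w * b⁻¹ * w⁻¹) ∈ bb z 0 := mul_mem hb (conj_bb (h.cent_le_cc 0 hwV) (inv_mem hb))
  have e : b * (w * b⁻¹ * w⁻¹) = b * w * b⁻¹ * w⁻¹ := by group
  rw [e] at h2
  have h3 := h.bb_eq_one h2 fun u hu => h.W_conj (h.ww_le_Q hu) h1
  rw [mul_inv_eq_one, mul_inv_eq_iff_eq_mul] at h3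
  exact h3

/-- `[w, b]` centralises `C_W(V)`. -/
theorem cm_comm {b w u : G} (hb : b ∈ bb z 0) (hw : w ∈ ww z 4) (hu : u ∈ ww z 4)
    (huV : u ∈ centralizer (V : Set G)) : b * w * b⁻¹ * w⁻¹ * u = u * (b * w * b⁻¹ * w⁻¹) := by
  have hbu := h.bb_comm_W hb hu huV
  have hbz : b * z 4 = z 4 * b := mem_cc.1 (h.cent_le_cc 4 (h.bb_le_cent 0 hb))
  have hwz : w * z 4 = z 4 * w := h.Q_comm_z (h.ww_le_Q hw)
  rw [← mul_inv_eq_iff_eq_mul]
  rcases h.W_conj (inv_mem (h.ww_le_Q hw)) hu with h1 | h1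
  · have h2 : w * u * w⁻¹ = u := by
      calc w * u * w⁻¹ = w * (w⁻¹ * u * w⁻¹⁻¹) * w⁻¹ := by rw [h1]
        _ = u := by group
    calc b * w * b⁻¹ * w⁻¹ * u * (b * w * b⁻¹ * w⁻¹)⁻¹
        = b * w * b⁻¹ * (w⁻¹ * u * w⁻¹⁻¹) * (b * w * b⁻¹)⁻¹ := by group
      _ = b * w * (b⁻¹ * u * b) * w⁻¹ * b⁻¹ := by rw [h1]; group
      _ = b * (w * u * w⁻¹) * b⁻¹ := by
          have : b⁻¹ * u * b = u := by rw [mul_assoc, ← hbu, inv_mul_cancel_left]
          rw [this]; group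
      _ = u := by rw [h2, hbu, mul_inv_cancel_right]
  · have h2 : w * (u * z 4) * w⁻¹ = u := by
      calc w * (u * z 4) * w⁻¹ = w * (w⁻¹ * u * w⁻¹⁻¹) * w⁻¹ := by rw [h1]
        _ = u := by group
    calc b * w * b⁻¹ * w⁻¹ * u * (b * w * b⁻¹ * w⁻¹)⁻¹
        = b * w * b⁻¹ * (w⁻¹ * u * w⁻¹⁻¹) * (b * w * b⁻¹)⁻¹ := by group
      _ = b * w * (b⁻¹ * (u * z 4) * b) * w⁻¹ * b⁻¹ := by rw [h1]; group
      _ = b * (w * (u * z 4) * w⁻¹) * b⁻¹ := by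
          have : b⁻¹ * (u * z 4) * b = u * z 4 := by
            calc b⁻¹ * (u * z 4) * b = b⁻¹ * u * (z 4 * b) := by group
              _ = b⁻¹ * (u * b) * z 4 := by rw [← hbz]; group
              _ = _ := by rw [← hbu]; group
          rw [this]; group
      _ = u := by rw [h2, hbu, mul_inv_cancel_right]

omit [Finite G] in
/-- Generation of `W` by `C_W(V)` and two elements. -/
theorem comm_W {w1 w2 : G} (hw1 : w1 ∈ ww z 4) (hw2 : w2 ∈ ww z 4) (hw1' : Act z w1 (swap 0 1 * swap 2 3))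
    (hw2' : Act z w2 (swap 0 2 * swap 1 3)) {P : G → Prop}
    (h0 : ∀ u ∈ ww z 4, u ∈ centralizer (V : Set G) → P u) (h1 : P w1) (h2 : P w2)
    (hm : ∀ a b : G, a ∈ ww z 4 → b ∈ ww z 4 → P a → P b → P (a * b)) {w : G} (hw : w ∈ ww z 4) : P w := by
  obtain ⟨σ, hσ, hwσ⟩ := h.Q_four (h.ww_le_Q hw)
  have key : ∀ (v : G), v ∈ ww z 4 → P v → Act z v σ → P w := by
    intro v hv hPv hvσ
    have h3 : Act z (v⁻¹ * w) 1 := by
      have := hvσ.inv.mul hwσ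
      rwa [inv_mul_cancel] at this
    have h4 := h0 (v⁻¹ * w) (mul_mem (inv_mem hv) hw) (h.pts.mem_cent h3)
    have := hm v (v⁻¹ * w) hv (mul_mem (inv_mem hv) hw) hPv h4
    rwa [mul_inv_cancel_left] at this
  rcases hσ with rfl | rfl | rfl | rfl
  · exact h0 w hw (h.pts.mem_cent hwσ)
  · exact key w1 hw1 h1 hw1'
  · exact key w2 hw2 h2 hw2'
  · refine key (w1 * w2) (mul_mem hw1 hw2) (hm w1 w2 hw1 hw2 h1 h2) ?_
    have := hw1'.mul hw2'
    have e : (swap 0 1 * swap 2 3 : Perm (Fin 5)) * (swap 0 2 * swap 1 3) = swap 0 3 * swap 1 2 := by decide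
    rwa [e] at this

omit [Finite G] in
theorem z_comm_W {w : G} (hw : w ∈ ww z 4) : w * z 4 = z 4 * w := h.Q_comm_z (h.ww_le_Q hw)

omit [Finite G] in
/-- To centralise `W` it suffices to centralise `C_W(V)` and the two elements. -/
theorem mem_cent_W {x w1 w2 : G} (hw1 : w1 ∈ ww z 4) (hw2 : w2 ∈ ww z 4) (hw1' : Act z w1 (swap 0 1 * swap 2 3))
    (hw2' : Act z w2 (swap 0 2 * swap 1 3)) (h0 : ∀ u ∈ ww z 4, u ∈ centralizer (V : Set G) → x * u = u * x)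
    (h1 : x * w1 = w1 * x) (h2 : x * w2 = w2 * x) : x ∈ centralizer (ww z 4 : Set G) := by
  refine mem_centralizer_iff.2 fun w hw => ?_
  refine (h.comm_W hw1 hw2 hw1' hw2' (P := fun w => x * w = w * x) h0 h1 h2 ?_ hw).symm
  intro a b _ _ ha hb
  rw [← mul_assoc, ha, mul_assoc, hb, mul_assoc]

omit [Finite G] in
/-- An element of `W` centralising `C_W(V)` lies in `V_z Z(W)`. -/
theorem exists_e {c w1 w2 : G} (hw1 : w1 ∈ ww z 4) (hw2 : w2 ∈ ww z 4)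
    (hw1' : Act z w1 (swap 0 1 * swap 2 3)) (hw2' : Act z w2 (swap 0 2 * swap 1 3))
    (hc : c ∈ ww z 4) (h0 : ∀ u ∈ ww z 4, u ∈ centralizer (V : Set G) → c * u = u * c) :
    ∃ e ∈ V, e ∈ ww z 4 ∧ c * e ∈ centralizer (ww z 4 : Set G) := by
  have hm1 : z 0 * z 1 ∈ ww z 4 := pr_mem_ww (by decide) (by decide)
  have hm2 : z 0 * z 2 ∈ ww z 4 := pr_mem_ww (by decide) (by decide)
  have hV1 : z 0 * z 1 ∈ V := mul_mem (h.pts.mem 0) (h.pts.mem 1)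
  have hV2 : z 0 * z 2 ∈ V := mul_mem (h.pts.mem 0) (h.pts.mem 2)
  -- the action of `w1`, `w2` on the two elements
  have a11 : w1 * (z 0 * z 1) * w1⁻¹ = z 0 * z 1 := by
    rw [h.ev_pr, h.pts.ev_conj hw1', h.pts.ev_inj]; decide
  have a12 : w1 * (z 0 * z 2) * w1⁻¹ = z 0 * z 2 * z 4 := by
    have e4 : z 4 = h.pts.ev {4} := (h.pts.ev_singleton 4).symm
    rw [h.ev_pr, h.pts.ev_conj hw1', e4, h.pts.ev_mul, h.pts.ev_inj]; decide
  have a21 : w2 * (z 0 * z 1) * w2⁻¹ = z 0 * z 1 * z 4 := by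
    have e4 : z 4 = h.pts.ev {4} := (h.pts.ev_singleton 4).symm
    rw [h.ev_pr, h.pts.ev_conj hw2', e4, h.pts.ev_mul, h.pts.ev_inj]; decide
  have a22 : w2 * (z 0 * z 2) * w2⁻¹ = z 0 * z 2 := by
    rw [h.ev_pr, h.pts.ev_conj hw2', h.pts.ev_inj]; decide
  -- a suitable element
  have key : ∀ e ∈ V, w1 * (c * e) * w1⁻¹ = c * e → w2 * (c * e) * w2⁻¹ = c * e →
      c * e ∈ centralizer (ww z 4 : Set G) := by
    intro e he h1 h2
    refine h.mem_cent_W hw1 hw2 hw1' hw2' (fun u hu huV => ?_) ?_ ?_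
    · have h3 := mem_centralizer_iff.1 huV e he
      rw [mul_assoc, h3, ← mul_assoc, h0 u hu huV, mul_assoc]
    · rw [mul_inv_eq_iff_eq_mul] at h1; exact h1.symm
    · rw [mul_inv_eq_iff_eq_mul] at h2; exact h2.symm
  have split : ∀ w e : G, w * (c * e) * w⁻¹ = (w * c * w⁻¹) * (w * e * w⁻¹) := fun w e => by group
  have hz : ∀ e ∈ ww z 4, c * z 4 * (e * z 4) = c * e := by
    intro e he
    rw [h.z_comm_W he]
    calc c * z 4 * (z 4 * e) = c * (z 4 * z 4) * e := by group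
      _ = c * e := by rw [h.pts.sq, mul_one]
  have hz' : ∀ e ∈ ww z 4, c * z 4 * e = c * e * z 4 := by
    intro e he
    rw [mul_assoc, ← h.z_comm_W he, mul_assoc]
  rcases h.W_conj (h.ww_le_Q hw1) hc with h1 | h1 <;> rcases h.W_conj (h.ww_le_Q hw2) hc with h2 | h2
  · refine ⟨1, one_mem _, one_mem _, key 1 (one_mem _) ?_ ?_⟩
    · rw [mul_one, h1]
    · rw [mul_one, h2]
  · refine ⟨z 0 * z 1, hV1, hm1, key _ hV1 ?_ ?_⟩
    · rw [split, h1, a11]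
    · rw [split, h2, a21, hz _ hm1]
  · refine ⟨z 0 * z 2, hV2, hm2, key _ hV2 ?_ ?_⟩
    · rw [split, h1, a12, hz _ hm2]
    · rw [split, h2, a22]
  · refine ⟨z 0 * z 1 * (z 0 * z 2), mul_mem hV1 hV2, mul_mem hm1 hm2, key _ (mul_mem hV1 hV2) ?_ ?_⟩
    · have e1 : w1 * (z 0 * z 1 * (z 0 * z 2)) * w1⁻¹ =
          (w1 * (z 0 * z 1) * w1⁻¹) * (w1 * (z 0 * z 2) * w1⁻¹) := by group
      rw [split, h1, e1, a11, a12, ← mul_assoc (z 0 * z 1), hz _ (mul_mem hm1 hm2)]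
    · have e1 : w2 * (z 0 * z 1 * (z 0 * z 2)) * w2⁻¹ =
          (w2 * (z 0 * z 1) * w2⁻¹) * (w2 * (z 0 * z 2) * w2⁻¹) := by group
      have e2 : z 0 * z 1 * z 4 * (z 0 * z 2) = z 0 * z 1 * (z 0 * z 2) * z 4 := by
        rw [mul_assoc (z 0 * z 1), ← h.z_comm_W hm2]; group
      rw [split, h2, e1, a21, a22, e2, hz _ (mul_mem hm1 hm2)]

omit [Finite G] in
/-- `Z(W) ≤ C(V)`. -/
theorem ZW_le {x : G} (hx : x ∈ ww z 4) (hx' : x ∈ centralizer (ww z 4 : Set G)) :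
    x ∈ centralizer (V : Set G) :=
  h.mem_cent_of_comm (h.ww_le_Q hx)
    (mem_centralizer_iff.1 hx' _ (pr_mem_ww (by decide) (by decide))).symm
    (mem_centralizer_iff.1 hx' _ (pr_mem_ww (by decide) (by decide))).symm

/-- The group `K` of step (6) lies in `Q`. -/
theorem kk_le : kk z ≤ qq z 4 := by
  have hKC : kk z ≤ cc z 4 := fun g hg => hg.1
  refine le_o2 hKC (isPGroup_of_pow fun k hk => ?_) (norm_iff fun g hg x hx => ?_)
  · obtain ⟨n, hn⟩ := exists_exp (bb_isPGroup (z := z) 4)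
    obtain ⟨m, hm⟩ := exists_exp (o2_isPGroup (cc z 4))
    have hB : ∀ x ∈ qq z 4, x ∈ centralizer (ww z 4 : Set G) → x ∈ bb z 4 := fun x h1 h2 => mem_inf.2 ⟨h1, h2⟩
    have h1 : k ^ 2 ^ n ∈ centralizer (ww z 4 : Set G) := mem_centralizer_iff.2 fun w hw => by
      have h2 : k * w * k⁻¹ * w⁻¹ ∈ bb z 4 :=
        hB _ (h.ww_le_Q (mul_mem (conj_ww (hKC hk) hw) (inv_mem hw))) (hk.2.1 w hw)
      have e1 : k * w * k⁻¹ = (k * w * k⁻¹ * w⁻¹) * w := by group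
      have h4 := pow_fix e1 (hk.2.2 _ h2) (2 ^ n)
      rw [hn _ h2, one_mul, mul_inv_eq_iff_eq_mul] at h4
      exact h4.symm
    set k1 := k ^ 2 ^ n with hk1
    have hk1K : k1 ∈ kk z := pow_mem hk _
    have h2 : k1 ^ 2 ^ n ∈ qq z 4 := by
      refine h.char2_cc ⟨pow_mem (hKC hk1K) _, mem_centralizer_iff.2 fun q hq => ?_⟩
      have h3 : k1 * q * k1⁻¹ * q⁻¹ ∈ bb z 4 := by
        refine hB _ (mul_mem (conj_mem_o2 (hKC hk1K) hq) (inv_mem hq)) (mem_centralizer_iff.2 fun w hw => ?_)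
        have hkw := mem_centralizer_iff.1 h1 w hw
        have hkz : z 4 * k1 = k1 * z 4 := (mem_cc.1 (hKC hk1K)).symm
        have hqz := h.Q_comm_z hq
        rw [← mul_inv_eq_iff_eq_mul]
        -- `w q w⁻¹`
        rcases h.W_conj hq hw with h5 | h5
        · have h6 : w * q * w⁻¹ = q := by
            rw [mul_inv_eq_iff_eq_mul] at h5 ⊢; exact h5.symm
          have h7 : w * (k1 * q * k1⁻¹) * w⁻¹ = k1 * (w * q * w⁻¹) * k1⁻¹ := by
            calc w * (k1 * q * k1⁻¹) * w⁻¹ = (w * k1) * q * (w * k1)⁻¹ := by group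
              _ = (k1 * w) * q * (k1 * w)⁻¹ := by rw [hkw]
              _ = _ := by group
          calc w * (k1 * q * k1⁻¹ * q⁻¹) * w⁻¹ = (w * (k1 * q * k1⁻¹) * w⁻¹) * (w * q * w⁻¹)⁻¹ := by group
            _ = _ := by rw [h7, h6]
        · have h6 : w * q * w⁻¹ = q * z 4 := by
            have h8 : q * w = w * (z 4 * q) := by
              rw [mul_inv_eq_iff_eq_mul] at h5; rw [h5]; group
            have h9 : w * q = q * w * z 4 := by
              rw [h8, ← hqz]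
              calc w * q = w * q * (z 4 * z 4) := by rw [h.pts.sq, mul_one]
                _ = _ := by group
            rw [h9, mul_assoc q, h.z_comm_W hw]; group
          have h7 : w * (k1 * q * k1⁻¹) * w⁻¹ = k1 * (w * q * w⁻¹) * k1⁻¹ := by
            calc w * (k1 * q * k1⁻¹) * w⁻¹ = (w * k1) * q * (w * k1)⁻¹ := by group
              _ = (k1 * w) * q * (k1 * w)⁻¹ := by rw [hkw]
              _ = _ := by group
          calc w * (k1 * q * k1⁻¹ * q⁻¹) * w⁻¹ = (w * (k1 * q * k1⁻¹) * w⁻¹) * (w * q * w⁻¹)⁻¹ := by group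
            _ = k1 * (q * z 4) * k1⁻¹ * (q * z 4)⁻¹ := by rw [h7, h6]
            _ = k1 * q * (z 4 * k1⁻¹) * (z 4)⁻¹ * q⁻¹ := by group
            _ = k1 * q * k1⁻¹ * q⁻¹ := by
              have : z 4 * k1⁻¹ = k1⁻¹ * z 4 := (Commute.inv_right (show Commute (z 4) k1 from hkz)).eq
              rw [this]; group
      have e1 : k1 * q * k1⁻¹ = (k1 * q * k1⁻¹ * q⁻¹) * q := by group
      have h4 := pow_fix e1 (hk1K.2.2 _ h3) (2 ^ n)
      rw [hn _ h3, one_mul, mul_inv_eq_iff_eq_mul] at h4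
      exact h4.symm
    refine ⟨n + (n + m), ?_⟩
    rw [pow_add, pow_mul, ← hk1, pow_add, pow_mul]
    exact hm _ h2
  · refine ⟨mul_mem (mul_mem hg (hKC hx)) (inv_mem hg), fun w hw => mem_centralizer_iff.2 fun u hu => ?_,
      fun b hb => ?_⟩
    · have h1 := mem_centralizer_iff.1 (hx.2.1 _ (conj_ww (inv_mem hg) hw)) _ (conj_ww (inv_mem hg) hu)
      calc u * (g * x * g⁻¹ * w * (g * x * g⁻¹)⁻¹ * w⁻¹)
          = g * ((g⁻¹ * u * g⁻¹⁻¹) * (x * (g⁻¹ * w * g⁻¹⁻¹) * x⁻¹ * (g⁻¹ * w * g⁻¹⁻¹)⁻¹)) * g⁻¹ := by group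
        _ = _ := by rw [h1]; group
    · have h1 := hx.2.2 _ (conj_bb (inv_mem hg) hb)
      calc g * x * g⁻¹ * b = g * (x * (g⁻¹ * b * g⁻¹⁻¹)) * g⁻¹ := by group
        _ = _ := by rw [h1]; group

/-- (6) -/
theorem bb_eq_one' {b : G} (hb : b ∈ bb z 0)
    (hw : ∀ w ∈ ww z 4, b * w * b⁻¹ * w⁻¹ ∈ centralizer (ww z 4 : Set G)) : b = 1 := by
  have h1 : b ∈ qq z 4 := h.kk_le ⟨h.cent_le_cc 4 (h.bb_le_cent 0 hb), hw, fun x hx =>
    h.bb_comm (i := 0) (j := 4) (by decide) hb hx⟩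
  refine h.bb_eq_one hb fun w hw => ?_
  have hbz := h.Q_comm_z h1
  rcases h.W_conj h1 hw with h5 | h5
  · left; rw [mul_inv_eq_iff_eq_mul] at h5 ⊢; exact h5.symm
  · right
    have h8 : b * w = w * (z 4 * b) := by
      rw [mul_inv_eq_iff_eq_mul] at h5; rw [h5]; group
    have h9 : w * b = b * w * z 4 := by
      rw [h8, ← hbz]
      calc w * b = w * b * (z 4 * z 4) := by rw [h.pts.sq, mul_one]
        _ = _ := by group
    rw [h9, mul_assoc b, h.z_comm_W hw]; group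

end Hyp

end Cfsg.Agent.Omega.TT
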