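import Cfsg.Agent.Omega.TT.Extra

/-!
# Theorem E, step (7) and the conclusion (helper492)

`Hyp.large` : `O₂(C_G(z))` is extraspecial with centre `⟨z⟩`.
-/

set_option autoImplicit false

namespace Cfsg.Agent.Omega.TT

open Subgroup Cfsg.Agent.ZN Equiv Cfsg.Agent.MinSimple.MinParabolic Cfsg.Agent.MinSimple.VModule
open Cfsg.Agent.MinSimple.Basic

universe u

variable {G : Type u} [Group G] {V : Subgroup G} {z : Fin 5 → G} {S : Subgroup G}

namespace Hyp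

variable [Finite G] (h : Hyp V z S)

include h

/-- `[b, w] = ζ e` with `e ∈ V ∩ W`, `ζ ∈ Z(W)`, and `b` commutes with `[b, w]`. -/
theorem cm_decomp {b w : G} (hb : b ∈ bb z 0) (hw : w ∈ ww z 4) :
    ∃ e ∈ V, e ∈ ww z 4 ∧ b * w * b⁻¹ * w⁻¹ * e ∈ centralizer (ww z 4 : Set G) ∧
      b * (b * w * b⁻¹ * w⁻¹) = b * w * b⁻¹ * w⁻¹ * b := by
  obtain ⟨w1, hw1, hw1'⟩ := h.exists_W (σ := swap 0 1 * swap 2 3) (Or.inr (Or.inl rfl))
  obtain ⟨w2, hw2, hw2'⟩ := h.exists_W (σ := swap 0 2 * swap 1 3) (Or.inr (Or.inr (Or.inl rfl)))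
  have hbC : b ∈ cc z 4 := h.cent_le_cc 4 (h.bb_le_cent 0 hb)
  have hc : b * w * b⁻¹ * w⁻¹ ∈ ww z 4 := mul_mem (conj_ww hbC hw) (inv_mem hw)
  obtain ⟨e, he, heW, hce⟩ := h.exists_e hw1 hw2 hw1' hw2' hc fun u hu huV => h.cm_comm hb hw hu huV
  refine ⟨e, he, heW, hce, ?_⟩
  set c := b * w * b⁻¹ * w⁻¹
  have h1 : b * (c * e) = c * e * b := h.bb_comm_W hb (mul_mem hc heW) (h.ZW_le (mul_mem hc heW) hce)
  have h2 : e * b = b * e := mem_centralizer_iff.1 (h.bb_le_cent 0 hb) e he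
  have e1 : c = c * e * e⁻¹ := by group
  rw [e1, ← mul_assoc, h1, mul_assoc, mul_assoc (c * e)]
  congr 1
  rw [eq_inv_mul_iff_mul_eq, ← mul_assoc, h2, mul_inv_cancel_right]

/-- The square of `[b, w]` lies in `Z(W)`. -/
theorem cm_sq {b w : G} (hb : b ∈ bb z 0) (hw : w ∈ ww z 4) :
    (b * w * b⁻¹ * w⁻¹) * (b * w * b⁻¹ * w⁻¹) ∈ centralizer (ww z 4 : Set G) ∧
      ((∀ x ∈ bb z 4, x * x = 1) → (b * w * b⁻¹ * w⁻¹) * (b * w * b⁻¹ * w⁻¹) = 1) := by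
  obtain ⟨e, he, heW, hce, -⟩ := h.cm_decomp hb hw
  have hbC : b ∈ cc z 4 := h.cent_le_cc 4 (h.bb_le_cent 0 hb)
  have hc : b * w * b⁻¹ * w⁻¹ ∈ ww z 4 := mul_mem (conj_ww hbC hw) (inv_mem hw)
  set c := b * w * b⁻¹ * w⁻¹
  have hee : e * e = 1 := h.pts.sq_mem he
  have h3 : e * (c * e) = c * e * e := mem_centralizer_iff.1 hce e heW
  have h4 : c * c = (c * e) * (c * e) := by
    rw [mul_assoc c e (c * e), h3, mul_assoc c e e, hee, mul_one]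
  refine ⟨by rw [h4]; exact mul_mem hce hce, fun hB => ?_⟩
  rw [h4]
  exact hB _ (mem_inf.2 ⟨h.ww_le_Q (mul_mem hc heW), hce⟩)

/-- `B₁` is elementary abelian. -/
theorem bb_zero_sq {b : G} (hb : b ∈ bb z 0) : b * b = 1 := by
  refine h.bb_eq_one' (mul_mem hb hb) fun w hw => ?_
  obtain ⟨-, -, -, -, hbc⟩ := h.cm_decomp hb hw
  have e : b * b * w * (b * b)⁻¹ * w⁻¹ = (b * w * b⁻¹ * w⁻¹) * (b * w * b⁻¹ * w⁻¹) := by
    calc b * b * w * (b * b)⁻¹ * w⁻¹ = b * (b * w * b⁻¹ * w⁻¹) * w * b⁻¹ * w⁻¹ := by group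
      _ = b * w * b⁻¹ * w⁻¹ * b * w * b⁻¹ * w⁻¹ := by rw [hbc]
      _ = _ := by group
  rw [e]
  exact (h.cm_sq hb hw).1

theorem bb_sq {k : Fin 5} {b : G} (hb : b ∈ bb z k) : b * b = 1 := by
  obtain ⟨σ, hσ, hk⟩ := exists_alt_move k 0
  obtain ⟨g, hg, hgσ⟩ := h.pts.alt σ hσ
  have h1 := conj_mem_bb hgσ hb
  rw [hk] at h1
  have h2 := h.bb_zero_sq h1
  have e : g * b * g⁻¹ * (g * b * g⁻¹) = g * (b * b) * g⁻¹ := by group
  rw [e] at h2
  calc b * b = g⁻¹ * (g * (b * b) * g⁻¹) * g := by group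
    _ = 1 := by rw [h2]; group

omit [Finite G] in
/-- Squares in `W`. -/
theorem W_sq {w : G} (hw : w ∈ ww z 4) : w * w = 1 ∨ w * w = z 4 := by
  have hw' := hw
  rw [ww] at hw'
  induction hw' using closure_induction with
  | mem x hx =>
    obtain ⟨c, hc, i, j, hi, hj, rfl⟩ := hx
    left
    have h1 := h.pts.sq_mem (mul_mem (h.pts.mem i) (h.pts.mem j))
    calc c * (z i * z j) * c⁻¹ * (c * (z i * z j) * c⁻¹) = c * (z i * z j * (z i * z j)) * c⁻¹ := by group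
      _ = 1 := by rw [h1]; group
  | one => left; simp
  | mul x y hx1 hy1 hx hy =>
    have hx' := hx hx1
    have hy' := hy hy1
    have hxz : x * z 4 = z 4 * x := h.z_comm_W hx1
    have hyz : y * z 4 = z 4 * y := h.z_comm_W hy1
    have key : x * y * (x * y) = (x * x) * (y * y) ∨ x * y * (x * y) = (x * x) * (y * y) * z 4 := by
      rcases h.W_conj (h.ww_le_Q hy1) hx1 with h1 | h1
      · left
        rw [mul_inv_eq_iff_eq_mul] at h1
        calc x * y * (x * y) = x * (y * x) * y := by group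
          _ = _ := by rw [h1]; group
      · right
        rw [mul_inv_eq_iff_eq_mul] at h1
        calc x * y * (x * y) = x * (y * x) * y := by group
          _ = x * x * (z 4 * y) * y := by rw [h1]; group
          _ = x * x * (y * z 4) * y := by rw [hyz]
          _ = x * x * y * (z 4 * y) := by group
          _ = x * x * y * (y * z 4) := by rw [hyz]
          _ = _ := by group
    have hzz := h.pts.sq 4
    rcases hx' with e1 | e1 <;> rcases hy' with e2 | e2 <;> rcases key with e3 | e3 <;>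
      rw [e3, e1, e2] <;> simp [hzz]
  | inv x hx1 hx =>
    have e : x⁻¹ * x⁻¹ = (x * x)⁻¹ := by group
    rcases hx hx1 with h1 | h1
    · left; rw [e, h1, inv_one]
    · right; rw [e, h1, h.pts.inv_eq]

/-- Alternation: `[b, w]` commutes with `w`. -/
theorem cm_self {b w : G} (hb : b ∈ bb z 0) (hw : w ∈ ww z 4) :
    b * w * b⁻¹ * w⁻¹ * w = w * (b * w * b⁻¹ * w⁻¹) := by
  have hbz : b * z 4 = z 4 * b := mem_cc.1 (h.cent_le_cc 4 (h.bb_le_cent 0 hb))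
  have h1 := (h.cm_sq hb hw).2 fun x hx => h.bb_sq hx
  set c := b * w * b⁻¹ * w⁻¹ with hc
  have h2 : c * w = b * w * b⁻¹ := by rw [hc]; group
  have h3 : c * w * (c * w) = w * w := by
    rw [h2]
    calc b * w * b⁻¹ * (b * w * b⁻¹) = b * (w * w) * b⁻¹ := by group
      _ = w * w := by
        rcases h.W_sq hw with e | e
        · rw [e]; group
        · rw [e, hbz]; group
  have h4 : c * w * c = w := by
    have : c * w * c * w = w * w := by rw [← h3]; group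
    exact mul_right_cancel this
  have h5 : c⁻¹ = c := inv_eq_of_mul_eq_one_left h1
  calc c * w = c * w * c * c⁻¹ := by group
    _ = w * c⁻¹ := by rw [h4]
    _ = w * c := by rw [h5]

/-- If `[b, w₁]` commutes with `w₂` then `b = 1`. -/
theorem bb_eq_one_of {b w1 w2 : G} (hw1 : w1 ∈ ww z 4) (hw2 : w2 ∈ ww z 4)
    (hw1' : Act z w1 (swap 0 1 * swap 2 3)) (hw2' : Act z w2 (swap 0 2 * swap 1 3)) (hb : b ∈ bb z 0)
    (h12 : b * w1 * b⁻¹ * w1⁻¹ * w2 = w2 * (b * w1 * b⁻¹ * w1⁻¹)) : b = 1 := by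
  have hbC : b ∈ cc z 4 := h.cent_le_cc 4 (h.bb_le_cent 0 hb)
  have mem : ∀ w ∈ ww z 4, (b * w * b⁻¹ * w⁻¹) ∈ ww z 4 := fun w hw =>
    mul_mem (conj_ww hbC hw) (inv_mem hw)
  have c1 : b * w1 * b⁻¹ * w1⁻¹ ∈ centralizer (ww z 4 : Set G) :=
    h.mem_cent_W hw1 hw2 hw1' hw2' (fun u hu huV => h.cm_comm hb hw1 hu huV) (h.cm_self hb hw1) h12
  -- `[b, w₂]` commutes with `w₁`
  have c2' : b * w2 * b⁻¹ * w2⁻¹ * w1 = w1 * (b * w2 * b⁻¹ * w2⁻¹) := by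
    have h1 := h.cm_self hb (mul_mem hw1 hw2)
    have e1 : b * (w1 * w2) * b⁻¹ * (w1 * w2)⁻¹ =
        (b * w1 * b⁻¹ * w1⁻¹) * (w1 * (b * w2 * b⁻¹ * w2⁻¹) * w1⁻¹) := by group
    rw [e1] at h1
    have h2 : w1 * w2 * (b * w1 * b⁻¹ * w1⁻¹) = b * w1 * b⁻¹ * w1⁻¹ * (w1 * w2) :=
      mem_centralizer_iff.1 c1 _ (mul_mem hw1 hw2)
    set d1 := b * w1 * b⁻¹ * w1⁻¹
    have h3 := h.cm_self hb hw2
    set d2 := b * w2 * b⁻¹ * w2⁻¹
    -- `w₁ d₂ w₁⁻¹` commutes with `w₁ w₂`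
    have h4 : w1 * d2 * w1⁻¹ * (w1 * w2) = w1 * w2 * (w1 * d2 * w1⁻¹) := by
      have : d1 * (w1 * d2 * w1⁻¹ * (w1 * w2)) = d1 * (w1 * w2 * (w1 * d2 * w1⁻¹)) := by
        calc d1 * (w1 * d2 * w1⁻¹ * (w1 * w2)) = d1 * (w1 * d2 * w1⁻¹) * (w1 * w2) := by group
          _ = w1 * w2 * (d1 * (w1 * d2 * w1⁻¹)) := h1
          _ = (w1 * w2 * d1) * (w1 * d2 * w1⁻¹) := by group
          _ = d1 * (w1 * w2) * (w1 * d2 * w1⁻¹) := by rw [h2]
          _ = _ := by group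
      exact mul_left_cancel this
    have h5 : d2 * w2 * w1 = w2 * w1 * d2 := by
      have : w1 * (d2 * w2 * w1) = w1 * (w2 * w1 * d2) := by
        calc w1 * (d2 * w2 * w1) = (w1 * d2 * w1⁻¹ * (w1 * w2)) * w1 := by group
          _ = (w1 * w2 * (w1 * d2 * w1⁻¹)) * w1 := by rw [h4]
          _ = _ := by group
      exact mul_left_cancel this
    rw [h3] at h5
    have : w2 * (d2 * w1) = w2 * (w1 * d2) := by rw [← mul_assoc, h5]; group
    exact mul_left_cancel this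
  have c2 : b * w2 * b⁻¹ * w2⁻¹ ∈ centralizer (ww z 4 : Set G) :=
    h.mem_cent_W hw1 hw2 hw1' hw2' (fun u hu huV => h.cm_comm hb hw2 hu huV) c2' (h.cm_self hb hw2)
  refine h.bb_eq_one' hb fun w hw => ?_
  refine h.comm_W hw1 hw2 hw1' hw2' (P := fun w => b * w * b⁻¹ * w⁻¹ ∈ centralizer (ww z 4 : Set G))
    (fun u hu huV => ?_) c1 c2 ?_ hw
  · have h1 := h.bb_comm_W hb hu huV
    have : b * u * b⁻¹ * u⁻¹ = 1 := by rw [h1]; group
    show b * u * b⁻¹ * u⁻¹ ∈ _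
    rw [this]; exact one_mem _
  · intro a a' ha ha' hP hP'
    show b * (a * a') * b⁻¹ * (a * a')⁻¹ ∈ _
    have e : b * (a * a') * b⁻¹ * (a * a')⁻¹ = (b * a * b⁻¹ * a⁻¹) * (a * (b * a' * b⁻¹ * a'⁻¹) * a⁻¹) := by
      group
    have e2 : a * (b * a' * b⁻¹ * a'⁻¹) * a⁻¹ = b * a' * b⁻¹ * a'⁻¹ := by
      rw [mem_centralizer_iff.1 hP' a ha, mul_inv_cancel_right]
    rw [e, e2]
    exact mul_mem hP hP'

/-- `|B₁| = 2`. -/
theorem bb_zero {b : G} (hb : b ∈ bb z 0) : b = 1 ∨ b = z 0 := by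
  obtain ⟨w1, hw1, hw1'⟩ := h.exists_W (σ := swap 0 1 * swap 2 3) (Or.inr (Or.inl rfl))
  obtain ⟨w2, hw2, hw2'⟩ := h.exists_W (σ := swap 0 2 * swap 1 3) (Or.inr (Or.inr (Or.inl rfl)))
  by_contra hcon
  push Not at hcon
  have key : ∀ x ∈ bb z 0, x ≠ 1 → w2 * (x * w1 * x⁻¹ * w1⁻¹) * w2⁻¹ = x * w1 * x⁻¹ * w1⁻¹ * z 4 := by
    intro x hx hx1
    have hxC : x ∈ cc z 4 := h.cent_le_cc 4 (h.bb_le_cent 0 hx)
    have hm : x * w1 * x⁻¹ * w1⁻¹ ∈ ww z 4 := mul_mem (conj_ww hxC hw1) (inv_mem hw1)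
    rcases h.W_conj (h.ww_le_Q hw2) hm with h1 | h1
    · exfalso
      refine hx1 (h.bb_eq_one_of hw1 hw2 hw1' hw2' hx ?_)
      rw [mul_inv_eq_iff_eq_mul] at h1
      exact h1.symm
    · exact h1
  have hz := h.z_mem_bb 0
  have h1 := key b hb hcon.1
  have h2 := key (z 0) hz (h.pts.ne_one 0)
  have hbz := h.bb_le_cent 0 hb
  -- the product `z₀ b`
  have h3 : z 0 * b = 1 := by
    refine h.bb_eq_one_of hw1 hw2 hw1' hw2' (mul_mem hz hb) ?_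
    obtain ⟨e, he, heW, hce, -⟩ := h.cm_decomp hb hw1
    have hbC : b ∈ cc z 4 := h.cent_le_cc 4 (h.bb_le_cent 0 hb)
    have hm : b * w1 * b⁻¹ * w1⁻¹ ∈ ww z 4 := mul_mem (conj_ww hbC hw1) (inv_mem hw1)
    have h4 : z 0 * (b * w1 * b⁻¹ * w1⁻¹) = b * w1 * b⁻¹ * w1⁻¹ * z 0 := by
      have h5 : z 0 * (b * w1 * b⁻¹ * w1⁻¹ * e) = b * w1 * b⁻¹ * w1⁻¹ * e * z 0 :=
        h.bb_comm_W hz (mul_mem hm heW) (h.ZW_le (mul_mem hm heW) hce)
      have h6 : e * z 0 = z 0 * e := h.pts.comm_mem he (h.pts.mem 0)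
      set c := b * w1 * b⁻¹ * w1⁻¹
      have e1 : c = c * e * e⁻¹ := by group
      rw [e1, ← mul_assoc, h5, mul_assoc, mul_assoc (c * e)]
      congr 1
      rw [eq_inv_mul_iff_mul_eq, ← mul_assoc, h6, mul_inv_cancel_right]
    have e1 : z 0 * b * w1 * (z 0 * b)⁻¹ * w1⁻¹ =
        (b * w1 * b⁻¹ * w1⁻¹) * (z 0 * w1 * (z 0)⁻¹ * w1⁻¹) := by
      calc z 0 * b * w1 * (z 0 * b)⁻¹ * w1⁻¹ =
          z 0 * (b * w1 * b⁻¹ * w1⁻¹) * (w1 * (z 0)⁻¹ * w1⁻¹) := by group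
        _ = _ := by rw [h4]; group
    rw [e1]
    have hzm : z 0 * w1 * (z 0)⁻¹ * w1⁻¹ ∈ ww z 4 :=
      mul_mem (conj_ww (h.Vcc 4 (h.pts.mem 0)) hw1) (inv_mem hw1)
    have h7 : w2 * ((b * w1 * b⁻¹ * w1⁻¹) * (z 0 * w1 * (z 0)⁻¹ * w1⁻¹)) * w2⁻¹ =
        (b * w1 * b⁻¹ * w1⁻¹) * (z 0 * w1 * (z 0)⁻¹ * w1⁻¹) := by
      calc w2 * ((b * w1 * b⁻¹ * w1⁻¹) * (z 0 * w1 * (z 0)⁻¹ * w1⁻¹)) * w2⁻¹
          = (w2 * (b * w1 * b⁻¹ * w1⁻¹) * w2⁻¹) * (w2 * (z 0 * w1 * (z 0)⁻¹ * w1⁻¹) * w2⁻¹) := by group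
        _ = (b * w1 * b⁻¹ * w1⁻¹ * z 4) * (z 0 * w1 * (z 0)⁻¹ * w1⁻¹ * z 4) := by rw [h1, h2]
        _ = b * w1 * b⁻¹ * w1⁻¹ * z 4 * (z 4 * (z 0 * w1 * (z 0)⁻¹ * w1⁻¹)) := by
            rw [h.z_comm_W hzm]
        _ = b * w1 * b⁻¹ * w1⁻¹ * (z 4 * z 4) * (z 0 * w1 * (z 0)⁻¹ * w1⁻¹) := by group
        _ = _ := by rw [h.pts.sq, mul_one]
    rw [mul_inv_eq_iff_eq_mul] at h7
    exact h7.symm
  apply hcon.2
  have := eq_inv_of_mul_eq_one_right h3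
  rwa [h.pts.inv_eq] at this

theorem bb_four {b : G} (hb : b ∈ bb z 4) : b = 1 ∨ b = z 4 := by
  obtain ⟨σ, hσ, hk⟩ := exists_alt_move 4 0
  obtain ⟨g, hg, hgσ⟩ := h.pts.alt σ hσ
  have h1 := conj_mem_bb hgσ hb
  rw [hk] at h1
  rcases h.bb_zero h1 with h2 | h2
  · left
    calc b = g⁻¹ * (g * b * g⁻¹) * g := by group
      _ = 1 := by rw [h2]; group
  · right
    rw [← hk, ← hgσ 4] at h2
    calc b = g⁻¹ * (g * b * g⁻¹) * g := by group
      _ = z 4 := by rw [h2]; group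

open Cfsg.Agent.Co2Type.Quad in
/-- `Q = W`. -/
theorem Q_eq_ww : qq z 4 = ww z 4 := by
  refine le_antisymm ?_ h.ww_le_Q
  set Q := qq z 4 with hQ
  let W' : Subgroup Q := (ww z 4).subgroupOf Q
  let z' : Q := ⟨z 4, h.z_mem_Q⟩
  have hL : Large W' z' := by
    refine
      { z_mem := mem_subgroupOf.2 h.z_mem_ww
        z_ne := fun e => h.pts.ne_one 4 (congrArg Subtype.val e)
        z_sq := Subtype.ext (h.pts.sq 4)
        comm_z := fun x _ => Subtype.ext (h.Q_comm_z x.2)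
        conj_mem := fun g _ x hx => mem_subgroupOf.2 (conj_ww (o2_le _ g.2) (mem_subgroupOf.1 hx))
        sq := fun x hx => (h.W_sq (mem_subgroupOf.1 hx)).imp (fun e => Subtype.ext e) (fun e => Subtype.ext e)
        comm := fun x hx y hy => ?_
        cent := fun x hx hc => ?_
        self := fun g _ hc => ?_ }
    · have hyx := h.z_comm_W (mem_subgroupOf.1 hy)
      rcases h.W_conj x.2 (mem_subgroupOf.1 hy) with e | e
      · left; apply Subtype.ext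
        rw [mul_inv_eq_iff_eq_mul] at e; exact e
      · right; apply Subtype.ext
        rw [mul_inv_eq_iff_eq_mul] at e
        show (x : G) * y = y * x * z 4
        rw [e, mul_assoc, ← h.Q_comm_z x.2, mul_assoc]
    · have : (x : G) ∈ bb z 4 := mem_inf.2 ⟨x.2, mem_centralizer_iff.2 fun w hw =>
        (congrArg Subtype.val (hc ⟨w, h.ww_le_Q hw⟩ (mem_subgroupOf.2 hw))).symm⟩
      exact (h.bb_four this).imp (fun e => Subtype.ext e) (fun e => Subtype.ext e)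
    · have : (g : G) ∈ bb z 4 := mem_inf.2 ⟨g.2, mem_centralizer_iff.2 fun w hw =>
        (congrArg Subtype.val (hc ⟨w, h.ww_le_Q hw⟩ (mem_subgroupOf.2 hw))).symm⟩
      rw [mem_subgroupOf]
      rcases h.bb_four this with e | e
      · rw [e]; exact one_mem _
      · rw [e]; exact h.z_mem_ww
  intro g hg
  have hgz : (⟨g, hg⟩ : Q) ∈ centralizer ({z'} : Set Q) :=
    mem_centralizer_singleton_iff.2 (Subtype.ext (h.Q_comm_z hg))
  refine mem_subgroupOf.1 (hL.mem_of_act ⟨⟨g, hg⟩, hgz⟩ ?_)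
  ext v
  obtain ⟨x, rfl⟩ := hL.pr_surjective v
  rw [hL.act_pr]
  show hL.pr (hL.conjQ ⟨⟨g, hg⟩, hgz⟩ x) = hL.pr x
  rw [hL.pr_eq_pr, Large.conjQ_coe]
  rcases h.W_conj hg (mem_subgroupOf.1 x.2) with e | e
  · left; exact Subtype.ext e
  · right; exact Subtype.ext e

open Cfsg.Agent.Co2Type.Quad in
/-- **Theorem E**: `O₂(C_G(z))` is extraspecial. -/
theorem large : Large (o2 (centralizer ({z 4} : Set G))) (z 4) where
  z_mem := h.z_mem_Q
  z_ne := h.pts.ne_one 4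
  z_sq := h.pts.sq 4
  comm_z := fun _ hx => h.Q_comm_z hx
  conj_mem := fun _ hg _ hx => conj_mem_o2 (mem_cc.2 hg) hx
  sq := fun x hx => h.W_sq (by rw [← h.Q_eq_ww]; exact hx)
  comm := fun x hx y hy => by
    rcases h.W_conj (z := z) hx (by rw [← h.Q_eq_ww]; exact hy) with e | e
    · left; rw [mul_inv_eq_iff_eq_mul] at e; exact e
    · right
      rw [mul_inv_eq_iff_eq_mul] at e
      rw [e, mul_assoc, ← h.Q_comm_z hx, mul_assoc]
  cent := fun x hx hc => h.bb_four (mem_inf.2 ⟨hx, mem_centralizer_iff.2 fun w hw =>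
    (hc w (h.ww_le_Q hw)).symm⟩)
  self := fun _ hg hc => h.char2_cc ⟨mem_cc.2 hg, mem_centralizer_iff.2 fun x hx => (hc x hx).symm⟩

end Hyp

end Cfsg.Agent.Omega.TT
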