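import Cfsg.Agent.Omega.TT.Pts

/-!
# The frame of Theorem E (project OMEGA; helper492)

`Hyp V z S`: `V` with its points, `S` a maximal 2-subgroup of `G` normalising `V` and fixing the point `z 4`,
2-locals have characteristic 2, `V ≰ O₂(C_G(z 4))`.
`ww z k` = normal closure in `C_G(z k)` of the products of two points different from `z k`;
`bb z k` = its centraliser in `O₂(C_G(z k))`.
-/

set_option autoImplicit false

namespace Cfsg.Agent.Omega.TT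

open Subgroup Cfsg.Agent.ZN Equiv Cfsg.Agent.MinSimple.MinParabolic Cfsg.Agent.MinSimple.VModule
open Cfsg.Agent.MinSimple.Basic

universe u

variable {G : Type u} [Group G] {V : Subgroup G} {z : Fin 5 → G}

/-- `C_G(z k)` -/
abbrev cc (z : Fin 5 → G) (k : Fin 5) : Subgroup G := centralizer ({z k} : Set G)

/-- `O₂(C_G(z k))` -/
abbrev qq (z : Fin 5 → G) (k : Fin 5) : Subgroup G := o2 (cc z k)

/-- `W_k` -/
def ww (z : Fin 5 → G) (k : Fin 5) : Subgroup G :=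
  closure {x | ∃ c ∈ cc z k, ∃ i j, i ≠ k ∧ j ≠ k ∧ x = c * (z i * z j) * c⁻¹}

/-- `B_k` -/
def bb (z : Fin 5 → G) (k : Fin 5) : Subgroup G := qq z k ⊓ centralizer (ww z k : Set G)

/-- `Y_k` -/
def yy (V : Subgroup G) (z : Fin 5 → G) (k : Fin 5) : Subgroup G :=
  closure {x | ∃ c ∈ cc z k, ∃ v ∈ V, x = c * v * c⁻¹}

theorem mem_cc {k : Fin 5} {g : G} : g ∈ cc z k ↔ g * z k = z k * g := mem_centralizer_singleton_iff

/-! ### Equivariance -/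

section conj

variable {g : G} {σ : Perm (Fin 5)} (hg : Act z g σ)

include hg

theorem conj_mem_cc {k : Fin 5} {x : G} (hx : x ∈ cc z k) : g * x * g⁻¹ ∈ cc z (σ k) := by
  rw [mem_cc] at hx ⊢
  rw [← hg k]
  calc g * x * g⁻¹ * (g * z k * g⁻¹) = g * (x * z k) * g⁻¹ := by group
    _ = g * (z k * x) * g⁻¹ := by rw [hx]
    _ = _ := by group

theorem conj_mem_ww {k : Fin 5} {x : G} (hx : x ∈ ww z k) : g * x * g⁻¹ ∈ ww z (σ k) := by
  rw [ww] at hx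
  induction hx using closure_induction with
  | mem x hx =>
    obtain ⟨c, hc, i, j, hi, hj, rfl⟩ := hx
    refine subset_closure ⟨g * c * g⁻¹, conj_mem_cc hg hc, σ i, σ j, fun e => hi (σ.injective e),
      fun e => hj (σ.injective e), ?_⟩
    rw [← hg i, ← hg j]; group
  | one => simp
  | mul x y _ _ hx hy =>
    have e : g * (x * y) * g⁻¹ = (g * x * g⁻¹) * (g * y * g⁻¹) := by group
    rw [e]; exact mul_mem hx hy
  | inv x _ hx =>
    have e : g * x⁻¹ * g⁻¹ = (g * x * g⁻¹)⁻¹ := by group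
    rw [e]; exact inv_mem hx

theorem map_cc (k : Fin 5) : (cc z k).map (MulAut.conj g).toMonoidHom = cc z (σ k) := by
  ext x
  constructor
  · rintro ⟨y, hy, rfl⟩
    exact conj_mem_cc hg hy
  · intro hx
    have h1 := conj_mem_cc hg.inv hx
    have e : σ⁻¹ (σ k) = k := by simp
    rw [e] at h1
    exact ⟨_, h1, by simp; group⟩

theorem conj_mem_qq {k : Fin 5} {x : G} (hx : x ∈ qq z k) : g * x * g⁻¹ ∈ qq z (σ k) := by
  have h1 := MinPar.o2_map_equiv (MulAut.conj g) (cc z k)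
  rw [map_cc hg] at h1
  rw [qq, h1]
  exact ⟨x, hx, rfl⟩

theorem conj_mem_bb {k : Fin 5} {x : G} (hx : x ∈ bb z k) : g * x * g⁻¹ ∈ bb z (σ k) := by
  refine mem_inf.2 ⟨conj_mem_qq hg (mem_inf.1 hx).1, mem_centralizer_iff.2 fun w hw => ?_⟩
  have h1 := conj_mem_ww hg.inv hw
  have e : σ⁻¹ (σ k) = k := by simp
  rw [e] at h1
  have h2 := mem_centralizer_iff.1 (mem_inf.1 hx).2 _ h1
  calc w * (g * x * g⁻¹) = g * ((g⁻¹ * w * g⁻¹⁻¹) * x) * g⁻¹ := by group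
    _ = _ := by rw [h2]; group

end conj

/-! ### The hypothesis -/

/-- The hypothesis of Theorem E. -/
structure Hyp (V : Subgroup G) (z : Fin 5 → G) (S : Subgroup G) : Prop where
  pts : Pts V z
  two : IsPGroup 2 S
  max : ∀ U : Subgroup G, IsPGroup 2 U → S ≤ normalizer (U : Set G) → U ≤ S
  norm : S ≤ normalizer (V : Set G)
  fix : S ≤ cc z 4
  char2 : ∀ U : Subgroup G, IsPGroup 2 U → U ≠ ⊥ →
    normalizer (U : Set G) ⊓ centralizer (o2 (normalizer (U : Set G)) : Set G) ≤ o2 (normalizer (U : Set G))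
  not_le : ¬ V ≤ qq z 4

variable {S : Subgroup G}

theorem conj_mem_o2 {L : Subgroup G} {l q : G} (hl : l ∈ L) (hq : q ∈ o2 L) : l * q * l⁻¹ ∈ o2 L :=
  (mem_normalizer_iff.1 (le_normalizer_o2 L hl) q).1 hq

theorem norm_iff {A : Subgroup G} (h : ∀ g ∈ S, ∀ x ∈ A, g * x * g⁻¹ ∈ A) : S ≤ normalizer (A : Set G) := by
  intro g hg
  rw [mem_normalizer_iff]
  intro x
  refine ⟨h g hg x, fun hx => ?_⟩
  have := h g⁻¹ (inv_mem hg) _ hx
  have e : g⁻¹ * (g * x * g⁻¹) * g⁻¹⁻¹ = x := by group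
  rwa [e] at this

namespace Hyp

variable (h : Hyp V z S)

include h

theorem Vcc (k : Fin 5) : V ≤ cc z k := fun _ hv => mem_cc.2 (h.pts.comm_mem hv (h.pts.mem k))

theorem char2_cc : cc z 4 ⊓ centralizer (qq z 4 : Set G) ≤ qq z 4 := by
  have hz2 : (z 4) ^ 2 = 1 := by rw [pow_two]; exact h.pts.sq 4
  have h1 := h.char2 (zpowers (z 4)) (MinSimple.Basic.isPGroup_zpowers hz2)
    (fun e => h.pts.ne_one 4 (zpowers_eq_bot.1 e))
  rwa [MinSimple.Basic.normalizer_zpowers_eq hz2] at h1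

theorem Q_le_S : qq z 4 ≤ S :=
  h.max _ (o2_isPGroup _) (h.fix.trans (le_normalizer_o2 _))

theorem Q_le_L : qq z 4 ≤ normalizer (V : Set G) := h.Q_le_S.trans h.norm

theorem Q_le_C (k : Fin 5) : qq z k ≤ cc z k := o2_le _

/-- A nontrivially acting 2-subgroup normalised by `C_L(z 4)` induces exactly the four-group. -/
theorem four_of {P : Subgroup G} (hP : IsPGroup 2 P) (hPV : P ≤ normalizer (V : Set G)) (hPC : P ≤ cc z 4)
    (hn : ∀ g ∈ normalizer (V : Set G), g ∈ cc z 4 → ∀ x ∈ P, g * x * g⁻¹ ∈ P) :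
    (∀ g ∈ P, ∀ σ, Act z g σ → IsFour σ) ∧
      (¬ P ≤ centralizer (V : Set G) → ∀ σ, IsFour σ → ∃ g ∈ P, Act z g σ) := by
  obtain ⟨t, htV, ht⟩ := h.pts.alt tau tau_mem
  have htC : t ∈ cc z 4 := mem_cc.2 ((h.pts.fix_iff ht 4).2 tau_four)
  have h1 : ∀ g ∈ P, ∀ σ, Act z g σ → IsFour σ := by
    intro g hg σ hσ
    by_contra hF
    have h4 : σ 4 = 4 := (h.pts.fix_iff hσ 4).1 (mem_cc.1 (hPC hg))
    have key : ∀ x ∈ P, ∀ ρ : Perm (Fin 5), Act z x ρ → ρ ^ 3 = 1 → ρ = 1 := by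
      intro x hx ρ hρ h3
      obtain ⟨k, hk⟩ := hP ⟨x, hx⟩
      have hk' : x ^ 2 ^ k = 1 := congrArg Subtype.val hk
      have h5 := hρ.pow (2 ^ k)
      rw [hk'] at h5
      have h6 : ρ ^ 2 ^ k = 1 := Act.unique h.pts.inj h5 Act.one
      have h7 : orderOf ρ ∣ 3 := orderOf_dvd_of_pow_eq_one h3
      have h8 : orderOf ρ ∣ 2 ^ k := orderOf_dvd_of_pow_eq_one h6
      have h9 : Nat.Coprime 3 (2 ^ k) := Nat.Coprime.pow_right k (by norm_num)
      exact orderOf_eq_one_iff.1 (Nat.dvd_one.1 (h9 ▸ Nat.dvd_gcd h7 h8))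
    rcases perm_four σ h4 hF with ⟨h5, h6⟩ | ⟨h5, h6⟩
    · exact h6 (key (g * g) (mul_mem hg hg) _ (hσ.mul hσ) h5)
    · exact h6 (key (g * (t * g * t⁻¹)) (mul_mem hg (hn t htV htC g hg)) _ (hσ.mul (hσ.conj ht)) h5)
  refine ⟨h1, fun hne => ?_⟩
  obtain ⟨g, hg, hgV⟩ := SetLike.not_le_iff_exists.1 hne
  obtain ⟨σ, hσ⟩ := h.pts.perm g (hPV hg)
  have hσ1 : σ ≠ 1 := fun e => hgV (h.pts.mem_cent (e ▸ hσ))
  have hc : ∀ x ∈ P, ∀ ρ, Act z x ρ → ∃ y ∈ P, Act z y (tau * ρ * tau⁻¹) := fun x hx ρ hρ =>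
    ⟨_, hn t htV htC x hx, hρ.conj ht⟩
  -- all three involutions
  have h3 : (∃ y ∈ P, Act z y (swap 0 1 * swap 2 3)) ∧ (∃ y ∈ P, Act z y (swap 0 2 * swap 1 3)) ∧
      (∃ y ∈ P, Act z y (swap 0 3 * swap 1 2)) := by
    have step1 : (∃ y ∈ P, Act z y (swap 0 1 * swap 2 3)) → ∃ y ∈ P, Act z y (swap 0 3 * swap 1 2) := by
      rintro ⟨y, hy, hy'⟩
      have := hc y hy _ hy'
      rwa [tau_conj1] at this
    have step2 : (∃ y ∈ P, Act z y (swap 0 3 * swap 1 2)) → ∃ y ∈ P, Act z y (swap 0 2 * swap 1 3) := by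
      rintro ⟨y, hy, hy'⟩
      have := hc y hy _ hy'
      rwa [tau_conj2] at this
    have step3 : (∃ y ∈ P, Act z y (swap 0 2 * swap 1 3)) → ∃ y ∈ P, Act z y (swap 0 1 * swap 2 3) := by
      rintro ⟨y, hy, hy'⟩
      have := hc y hy _ hy'
      rwa [tau_conj3] at this
    rcases h1 g hg σ hσ with rfl | rfl | rfl | rfl
    · exact absurd rfl hσ1
    · exact ⟨⟨g, hg, hσ⟩, step2 (step1 ⟨g, hg, hσ⟩), step1 ⟨g, hg, hσ⟩⟩
    · exact ⟨step3 ⟨g, hg, hσ⟩, ⟨g, hg, hσ⟩, step1 (step3 ⟨g, hg, hσ⟩)⟩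
    · exact ⟨step3 (step2 ⟨g, hg, hσ⟩), step2 ⟨g, hg, hσ⟩, ⟨g, hg, hσ⟩⟩
  rintro τ (rfl | rfl | rfl | rfl)
  · exact ⟨1, one_mem _, Act.one⟩
  · exact h3.1
  · exact h3.2.1
  · exact h3.2.2

theorem Q_four {g : G} (hg : g ∈ qq z 4) : ∃ σ, IsFour σ ∧ Act z g σ := by
  obtain ⟨σ, hσ⟩ := h.pts.perm g (h.Q_le_L hg)
  exact ⟨σ, (h.four_of (o2_isPGroup _) h.Q_le_L (o2_le _)
    (fun x _ hx y hy => conj_mem_o2 hx hy)).1 g hg σ hσ, hσ⟩

theorem exists_Q {σ : Perm (Fin 5)} (hσ : IsFour σ) : ∃ g ∈ qq z 4, Act z g σ := by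
  refine (h.four_of (o2_isPGroup _) h.Q_le_L (o2_le _)
    (fun x _ hx y hy => conj_mem_o2 hx hy)).2 (fun hle => h.not_le ?_) σ hσ
  intro v hv
  exact h.char2_cc ⟨h.Vcc 4 hv, mem_centralizer_iff.2 fun q hq =>
    (mem_centralizer_iff.1 (hle hq) v hv).symm⟩

omit [Group G] h in
theorem four_move : ∀ i j : Fin 5, i ≠ 4 → j ≠ 4 → ∃ σ, IsFour σ ∧ σ i = j := by
  have hd : ∀ i j : Fin 5, i ≠ 4 → j ≠ 4 → (1 : Perm (Fin 5)) i = j ∨ (swap 0 1 * swap 2 3 : Perm (Fin 5)) i = j ∨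
      (swap 0 2 * swap 1 3 : Perm (Fin 5)) i = j ∨ (swap 0 3 * swap 1 2 : Perm (Fin 5)) i = j := by decide
  intro i j hi hj
  rcases hd i j hi hj with e | e | e | e
  · exact ⟨_, Or.inl rfl, e⟩
  · exact ⟨_, Or.inr (Or.inl rfl), e⟩
  · exact ⟨_, Or.inr (Or.inr (Or.inl rfl)), e⟩
  · exact ⟨_, Or.inr (Or.inr (Or.inr rfl)), e⟩

/-- Products of two points different from `z 4` lie in `Q`. -/
theorem pr_mem_Q {i j : Fin 5} (hi : i ≠ 4) (hj : j ≠ 4) : z i * z j ∈ qq z 4 := by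
  obtain ⟨σ, hσ, hij⟩ := four_move i j hi hj
  obtain ⟨q, hq, hqσ⟩ := h.exists_Q hσ
  have h1 : z i * q * (z i)⁻¹ ∈ qq z 4 := conj_mem_o2 (h.Vcc 4 (h.pts.mem i)) hq
  have h2 := mul_mem h1 (inv_mem hq)
  have e : z i * q * (z i)⁻¹ * q⁻¹ = z i * (q * z i * q⁻¹) := by
    rw [h.pts.inv_eq]; group
  rw [e, hqσ i, hij] at h2
  exact h2

theorem ww_le_Q : ww z 4 ≤ qq z 4 := by
  rw [ww, closure_le]
  rintro _ ⟨c, hc, i, j, hi, hj, rfl⟩
  exact conj_mem_o2 hc (h.pr_mem_Q hi hj)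

omit h in
theorem pr_mem_ww {k i j : Fin 5} (hi : i ≠ k) (hj : j ≠ k) : z i * z j ∈ ww z k :=
  subset_closure ⟨1, one_mem _, i, j, hi, hj, by group⟩

omit h in
theorem conj_ww {k : Fin 5} {c x : G} (hc : c ∈ cc z k) (hx : x ∈ ww z k) : c * x * c⁻¹ ∈ ww z k := by
  rw [ww] at hx ⊢
  induction hx using closure_induction with
  | mem x hx =>
    obtain ⟨d, hd, i, j, hi, hj, rfl⟩ := hx
    exact subset_closure ⟨c * d, mul_mem hc hd, i, j, hi, hj, by group⟩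
  | one => simp
  | mul x y _ _ hx hy =>
    have e : c * (x * y) * c⁻¹ = (c * x * c⁻¹) * (c * y * c⁻¹) := by group
    rw [e]; exact mul_mem hx hy
  | inv x _ hx =>
    have e : c * x⁻¹ * c⁻¹ = (c * x * c⁻¹)⁻¹ := by group
    rw [e]; exact inv_mem hx

omit h in
theorem conj_bb {k : Fin 5} {c x : G} (hc : c ∈ cc z k) (hx : x ∈ bb z k) : c * x * c⁻¹ ∈ bb z k := by
  refine mem_inf.2 ⟨conj_mem_o2 hc (mem_inf.1 hx).1, mem_centralizer_iff.2 fun w hw => ?_⟩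
  have h1 := conj_ww (inv_mem hc) hw
  have h2 := mem_centralizer_iff.1 (mem_inf.1 hx).2 _ h1
  calc w * (c * x * c⁻¹) = c * ((c⁻¹ * w * c⁻¹⁻¹) * x) * c⁻¹ := by group
    _ = _ := by rw [h2]; group

end Hyp

end Cfsg.Agent.Omega.TT
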