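import Cfsg.Agent.Omega.TT.Final
import Cfsg.Agent.Omega.Exits
import Cfsg.Agent.LargeExtra.Nine.ToCent
import Cfsg.Agent.Transfer.Extraspecial

/-!
# Theorem E (project OMEGA, II.c and NO-1 for `q = 2`; helper492)

`G` of characteristic 2 type, `V` elementary abelian of order 16 with five points `z i` permuted by
`N_G(V) ≥ S`, `S` a Sylow 2-subgroup of `G`, at least the alternating group being induced
(`V = O₄⁻(2)`).  If `V ≰ O₂(C_G(z k))` for some `k`, then `O₂(C_G(z k))` is extraspecial: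

* `Pts.large` : `Large (o2 (centralizer {z k})) (z k)`;
* `Pts.extra` : `∃ n, 2 ≤ n ∧ Exits.Extra (z k) n` (hypothesis of the exits S1759, S1761, S1762, S1763).
-/

set_option autoImplicit false

namespace Cfsg.Agent.Omega.TT

open Subgroup Cfsg Cfsg.Agent.ZN Equiv Cfsg.Agent.MinSimple.MinParabolic Cfsg.Agent.MinSimple.VModule
open Cfsg.Agent.MinSimple.Basic Cfsg.Agent.Co2Type.Quad

universe u

variable {G : Type u} [Group G] {V : Subgroup G} {z : Fin 5 → G}

namespace Hyp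

variable [Finite G] {S : Subgroup G} (h : Hyp V z S)

include h

/-- `|Q| > 8`. -/
theorem card_ne : Nat.card (qq z 4) ≠ 8 := by
  intro h8
  have hL : Large (qq z 4) (z 4) := h.large
  have hV : Nat.card hL.V = 4 := by
    have := hL.card_eq
    omega
  let a : qq z 4 := ⟨z 0 * z 1, h.pr_mem_Q (by decide) (by decide)⟩
  let b : qq z 4 := ⟨z 0 * z 2, h.pr_mem_Q (by decide) (by decide)⟩
  have e4 : z 4 = h.pts.ev {4} := (h.pts.ev_singleton 4).symm
  have e1 : (1 : G) = h.pts.ev ∅ := h.pts.ev_empty.symm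
  have ha : hL.pr a ≠ 0 := by
    rw [Ne, hL.pr_eq_zero]
    show ¬ (z 0 * z 1 = 1 ∨ z 0 * z 1 = z 4)
    rw [h.ev_pr, e1, e4, h.pts.ev_inj, h.pts.ev_inj]
    decide
  have hb : hL.pr b ≠ 0 := by
    rw [Ne, hL.pr_eq_zero]
    show ¬ (z 0 * z 2 = 1 ∨ z 0 * z 2 = z 4)
    rw [h.ev_pr, e1, e4, h.pts.ev_inj, h.pts.ev_inj]
    decide
  have hab : hL.pr a ≠ hL.pr b := by
    rw [Ne, hL.pr_eq_pr]
    show ¬ (z 0 * z 1 = z 0 * z 2 ∨ z 0 * z 1 = z 0 * z 2 * z 4)
    rw [h.ev_pr, h.ev_pr, e4, h.pts.ev_mul, h.pts.ev_inj, h.pts.ev_inj]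
    decide
  have hcomm : hL.b (hL.pr a) (hL.pr b) = 0 :=
    (hL.b_pr a b).2 (h.pts.comm_mem (mul_mem (h.pts.mem 0) (h.pts.mem 1)) (mul_mem (h.pts.mem 0) (h.pts.mem 2)))
  classical
  have : Fintype hL.V := Fintype.ofFinite _
  have hall : ∀ v : hL.V, v = 0 ∨ v = hL.pr a ∨ v = hL.pr b ∨ v = hL.pr a + hL.pr b := by
    have hcard : ({0, hL.pr a, hL.pr b, hL.pr a + hL.pr b} : Finset hL.V).card = 4 := by
      rw [Finset.card_insert_of_notMem, Finset.card_insert_of_notMem, Finset.card_insert_of_notMem,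
        Finset.card_singleton]
      · simp only [Finset.mem_singleton]
        intro e
        exact ha (by simpa using e.symm)
      · simp only [Finset.mem_insert, Finset.mem_singleton, not_or]
        refine ⟨hab, fun e => hb ?_⟩
        simpa using e.symm
      · simp only [Finset.mem_insert, Finset.mem_singleton, not_or]
        refine ⟨ha.symm, hb.symm, fun e => hab ?_⟩
        have h1 := eq_neg_of_add_eq_zero_left e.symm
        rwa [hL.neg_eq] at h1
    have huniv : ({0, hL.pr a, hL.pr b, hL.pr a + hL.pr b} : Finset hL.V) = Finset.univ := by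
      rw [← Finset.card_eq_iff_eq_univ, hcard, ← Nat.card_eq_fintype_card, hV]
    intro v
    have := Finset.mem_univ v
    rw [← huniv] at this
    simpa using this
  refine ha (hL.b_nondeg fun w => ?_)
  rcases hall w with rfl | rfl | rfl | rfl
  · simp
  · exact hL.b_self _
  · exact hcomm
  · rw [map_add, hcomm, hL.b_self, add_zero]

theorem large_at (k : Fin 5) : Large (qq z k) (z k) ∧ Nat.card (qq z k) = Nat.card (qq z 4) := by
  obtain ⟨τ, hτ, hτk⟩ := exists_alt_move 4 k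
  obtain ⟨x, hx, hxτ⟩ := h.pts.alt τ hτ
  have hL := h.large.conj x
  have e1 := MinPar.o2_map_equiv (MulAut.conj x) (cc z 4)
  rw [map_cc hxτ, hτk] at e1
  rw [← e1, hxτ 4, hτk] at hL
  refine ⟨hL, ?_⟩
  rw [qq, e1]
  exact Nat.card_congr ((qq z 4).equivMapOfInjective _ (MulAut.conj x).injective).symm.toEquiv

theorem extra_at (k : Fin 5) : ∃ n, 2 ≤ n ∧ Exits.Extra (z k) n := by
  obtain ⟨hL, hc⟩ := h.large_at k
  have h2 : Nat.card (qq z k) ≠ 2 := by
    intro h2
    obtain ⟨hL', hc'⟩ := h.large_at 4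
    rw [hc] at h2
    have h3 := h.z_mem_Q
    have h4 := h.pr_mem_Q (i := 0) (j := 1) (by decide) (by decide)
    have h5 := hL'.card_eq
    rw [h2] at h5
    have h6 : Nat.card hL'.V = 1 := by omega
    have h7 : Subsingleton hL'.V := (Nat.card_eq_one_iff_unique.1 h6).1
    have h8 : hL'.pr ⟨z 0 * z 1, h4⟩ = 0 := Subsingleton.elim _ _
    rw [hL'.pr_eq_zero] at h8
    have e4 : z 4 = h.pts.ev {4} := (h.pts.ev_singleton 4).symm
    have e1 : (1 : G) = h.pts.ev ∅ := h.pts.ev_empty.symm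
    change z 0 * z 1 = 1 ∨ z 0 * z 1 = z 4 at h8
    rw [h.ev_pr, e1, e4, h.pts.ev_inj, h.pts.ev_inj] at h8
    revert h8
    decide
  have hE := LargeExtra.Nine.ToCent.isExtraspecial_Q hL h2
  obtain ⟨n, hn1, hn⟩ := Transfer.Extraspecial.exists_card_eq Nat.prime_two hE
  have e : ↥(pCore 2 ↥(centralizer ({z k} : Set G))) ≃* ↥(qq z k) :=
    (pCore 2 ↥(centralizer ({z k} : Set G))).equivMapOfInjective _ (subtype_injective _)
  refine ⟨n, ?_, ?_, J2.ExtQuot.isExtraspecial_of_equiv e.symm hE, ?_⟩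
  · by_contra hlt
    have : n = 1 := by omega
    subst this
    exact h.card_ne (by rw [← hc, hn]; norm_num)
  · exact orderOf_eq_prime (by rw [pow_two]; exact h.pts.sq k) (h.pts.ne_one k)
  · rw [Nat.card_congr e.toEquiv]; exact hn

end Hyp

namespace Pts

/-- The action of `N_G(V)` on the points. -/
noncomputable def phi (h : Pts V z) : normalizer (V : Set G) →* Perm (Fin 5) where
  toFun g := (h.perm g g.2).choose
  map_one' := Act.unique h.inj (h.perm 1 (one_mem _)).choose_spec Act.one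
  map_mul' a b := Act.unique h.inj (h.perm (a * b) (mul_mem a.2 b.2)).choose_spec
    ((h.perm a a.2).choose_spec.mul (h.perm b b.2).choose_spec)

theorem act_phi (h : Pts V z) (g : normalizer (V : Set G)) : Act z g (h.phi g) := (h.perm g g.2).choose_spec

/-- A 2-subgroup of `N_G(V)` fixes a point. -/
theorem exists_fix [Finite G] (h : Pts V z) {S : Subgroup G} (hS : IsPGroup 2 S)
    (hSV : S ≤ normalizer (V : Set G)) : ∃ k, S ≤ centralizer ({z k} : Set G) := by
  have : Fact (Nat.Prime 2) := ⟨Nat.prime_two⟩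
  let f : S →* Perm (Fin 5) := h.phi.comp (Subgroup.inclusion hSV)
  let _ : MulAction S (Fin 5) := MulAction.compHom (Fin 5) f
  have h5 : ¬ 2 ∣ Nat.card (Fin 5) := by rw [Nat.card_eq_fintype_card, Fintype.card_fin]; norm_num
  obtain ⟨k, hk⟩ := hS.nonempty_fixed_point_of_prime_not_dvd_card (Fin 5) h5
  refine ⟨k, fun s hs => mem_centralizer_singleton_iff.2 ?_⟩
  have h1 : (h.phi ⟨s, hSV hs⟩) k = k := hk ⟨s, hs⟩
  exact (h.fix_iff (h.act_phi ⟨s, hSV hs⟩) k).2 h1

theorem hyp [Finite G] (hG : IsCharacteristicTwoType G) (h : Pts V z) (S : Sylow 2 G)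
    (hSV : (S : Subgroup G) ≤ normalizer (V : Set G)) (hz : (S : Subgroup G) ≤ centralizer ({z 4} : Set G))
    (hV : ¬ V ≤ o2 (centralizer ({z 4} : Set G))) : Hyp V z (S : Subgroup G) where
  pts := h
  two := S.isPGroup'
  max := fun _ hU hn => MinPar.le_of_le_normalizer S hU hn
  norm := hSV
  fix := hz
  char2 := fun _ hU hU1 => char2_normalizer hG hU hU1
  not_le := hV

/-- The hypothesis of Theorem E from a Sylow 2-subgroup in `N_G(V)`. -/
theorem exists_hyp [Finite G] (hG : IsCharacteristicTwoType G) (h : Pts V z) (S : Sylow 2 G)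
    (hSV : (S : Subgroup G) ≤ normalizer (V : Set G)) {k : Fin 5}
    (hV : ¬ V ≤ o2 (centralizer ({z k} : Set G))) : ∃ S' : Subgroup G, Hyp V z S' := by
  obtain ⟨j, hj⟩ := h.exists_fix S.isPGroup' hSV
  -- conjugate `j` to `4`
  obtain ⟨σ, hσ, hσj⟩ := exists_alt_move j 4
  obtain ⟨g, hg, hgσ⟩ := h.alt σ hσ
  have hcoe : ((g • S : Sylow 2 G) : Subgroup G) = (S : Subgroup G).map (MulAut.conj g).toMonoidHom := rfl
  have hS1 : ((g • S : Sylow 2 G) : Subgroup G) ≤ normalizer (V : Set G) := by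
    rw [hcoe]
    rintro _ ⟨s, hs, rfl⟩
    exact mul_mem (mul_mem hg (hSV hs)) (inv_mem hg)
  have hS2 : ((g • S : Sylow 2 G) : Subgroup G) ≤ centralizer ({z 4} : Set G) := by
    rw [hcoe]
    rintro _ ⟨s, hs, rfl⟩
    have := conj_mem_cc hgσ (hj hs)
    rwa [hσj] at this
  -- conjugate `k` to `4`
  obtain ⟨τ, hτ, hτk⟩ := exists_alt_move 4 k
  obtain ⟨x, hx, hxτ⟩ := h.alt τ hτ
  have hV4 : ¬ V ≤ o2 (centralizer ({z 4} : Set G)) := by
    intro hle
    apply hV
    intro v hv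
    have h1 := (mem_normalizer_iff.1 (inv_mem hx) v).1 hv
    have h2 := conj_mem_qq hxτ (hle h1)
    rw [hτk] at h2
    have e : x * (x⁻¹ * v * x⁻¹⁻¹) * x⁻¹ = v := by group
    rwa [e] at h2
  exact ⟨_, hyp hG h (g • S) hS1 hS2 hV4⟩

/-- **Theorem E**. -/
theorem large [Finite G] (hG : IsCharacteristicTwoType G) (h : Pts V z) (S : Sylow 2 G)
    (hSV : (S : Subgroup G) ≤ normalizer (V : Set G)) {k : Fin 5}
    (hV : ¬ V ≤ o2 (centralizer ({z k} : Set G))) : Large (o2 (centralizer ({z k} : Set G))) (z k) := by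
  obtain ⟨S', hS'⟩ := exists_hyp hG h S hSV hV
  exact (hS'.large_at k).1

/-- **Theorem E**, in the form of the exits. -/
theorem extra [Finite G] (hG : IsCharacteristicTwoType G) (h : Pts V z) (S : Sylow 2 G)
    (hSV : (S : Subgroup G) ≤ normalizer (V : Set G)) {k : Fin 5}
    (hV : ¬ V ≤ o2 (centralizer ({z k} : Set G))) : ∃ n, 2 ≤ n ∧ Exits.Extra (z k) n := by
  obtain ⟨S', hS'⟩ := exists_hyp hG h S hSV hV
  exact hS'.extra_at k

end Pts

end Cfsg.Agent.Omega.TT
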