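import Cfsg.Agent.Omega.MinPar

/-!
# The orthogonal module `O₄⁻(2)` of `A₅`, `S₅` (project OMEGA, II.c and NO-1, Theorem E; helper492)

`V` is elementary abelian of order 16, generated by the five points `z 0, …, z 4` with product 1
(`V` = even subsets of `{0, …, 4}`, `z i` = the complement of `i`); `N_G(V)` permutes the points and
induces at least `A₅` on them.
-/

set_option autoImplicit false
set_option linter.style.haveILetI false

namespace Cfsg.Agent.Omega.TT

open Subgroup Cfsg.Agent.ZN Equiv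

universe u

variable {G : Type u} [Group G]

/-- `g` acts on the points `z i` as the permutation `σ`. -/
def Act (z : Fin 5 → G) (g : G) (σ : Perm (Fin 5)) : Prop := ∀ i, g * z i * g⁻¹ = z (σ i)

/-- `V` is elementary abelian, generated by five different points `z i` with product 1; its normalizer
permutes the points and induces at least the alternating group on them. -/
structure Pts (V : Subgroup G) (z : Fin 5 → G) : Prop where
  gen : V = closure (Set.range z)
  sq : ∀ i, z i * z i = 1
  comm : ∀ i j, z i * z j = z j * z i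
  prod : z 0 * z 1 * z 2 * z 3 * z 4 = 1
  inj : Function.Injective z
  perm : ∀ g ∈ normalizer (V : Set G), ∃ σ : Perm (Fin 5), Act z g σ
  alt : ∀ σ ∈ alternatingGroup (Fin 5), ∃ g ∈ normalizer (V : Set G), Act z g σ

/-- The four-group on `{0, 1, 2, 3}`. -/
def IsFour (σ : Perm (Fin 5)) : Prop :=
  σ = 1 ∨ σ = swap 0 1 * swap 2 3 ∨ σ = swap 0 2 * swap 1 3 ∨ σ = swap 0 3 * swap 1 2

instance : DecidablePred IsFour := fun σ => by unfold IsFour; infer_instance

/-! ### Permutations -/

/-- The 3-cycle. -/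
def tau : Perm (Fin 5) := swap 0 1 * swap 1 2

theorem tau_mem : tau ∈ alternatingGroup (Fin 5) := by
  rw [Equiv.Perm.mem_alternatingGroup]; decide

theorem tau_four : tau 4 = 4 := by decide

theorem swap_mul_swap_mem {i j k l : Fin 5} (h : i ≠ j) (h' : k ≠ l) :
    swap i j * swap k l ∈ alternatingGroup (Fin 5) := by
  rw [Equiv.Perm.mem_alternatingGroup, Perm.sign_mul, Perm.sign_swap h, Perm.sign_swap h']
  simp

theorem exists_alt_move (i j : Fin 5) : ∃ σ : Perm (Fin 5), σ ∈ alternatingGroup (Fin 5) ∧ σ i = j := by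
  by_cases hij : i = j
  · exact ⟨1, one_mem _, by rw [hij]; rfl⟩
  have hd : ∀ i j : Fin 5, i ≠ j → ∃ k l : Fin 5, k ≠ l ∧ swap i j (swap k l i) = j := by decide
  obtain ⟨k, l, hkl, e⟩ := hd i j hij
  exact ⟨_, swap_mul_swap_mem hij hkl, e⟩

set_option maxRecDepth 20000 in
theorem perm_four : ∀ σ : Perm (Fin 5), σ 4 = 4 → ¬ IsFour σ →
    ((σ * σ) ^ 3 = 1 ∧ σ * σ ≠ 1) ∨
      ((σ * (tau * σ * tau⁻¹)) ^ 3 = 1 ∧ σ * (tau * σ * tau⁻¹) ≠ 1) := by
  decide

theorem tau_conj1 : tau * (swap 0 1 * swap 2 3) * tau⁻¹ = swap 0 3 * swap 1 2 := by decide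
theorem tau_conj2 : tau * (swap 0 3 * swap 1 2) * tau⁻¹ = swap 0 2 * swap 1 3 := by decide
theorem tau_conj3 : tau * (swap 0 2 * swap 1 3) * tau⁻¹ = swap 0 1 * swap 2 3 := by decide

namespace Act

variable {z : Fin 5 → G} {g h : G} {σ τ : Perm (Fin 5)}

theorem one : Act z 1 1 := fun i => by simp

theorem mul (hg : Act z g σ) (hh : Act z h τ) : Act z (g * h) (σ * τ) := fun i => by
  have e : g * h * z i * (g * h)⁻¹ = g * (h * z i * h⁻¹) * g⁻¹ := by group
  rw [e, hh i, hg (τ i)]; rfl

theorem inv (hg : Act z g σ) : Act z g⁻¹ σ⁻¹ := fun i => by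
  have e := hg (σ⁻¹ i)
  have e' : σ (σ⁻¹ i) = i := by simp
  rw [e'] at e
  rw [← e]; group

theorem conj (hg : Act z g σ) (hh : Act z h τ) : Act z (h * g * h⁻¹) (τ * σ * τ⁻¹) :=
  (hh.mul hg).mul hh.inv

theorem pow (hg : Act z g σ) (n : ℕ) : Act z (g ^ n) (σ ^ n) := by
  induction n with
  | zero => simpa using one
  | succ n ih => rw [pow_succ, pow_succ]; exact ih.mul hg

theorem unique (hz : Function.Injective z) (hg : Act z g σ) (hg' : Act z g τ) : σ = τ := by
  ext i
  have := hz ((hg i).symm.trans (hg' i))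
  rw [this]

end Act

namespace Pts

variable {V : Subgroup G} {z : Fin 5 → G}

section

variable (h : Pts V z)

include h

theorem mem (i : Fin 5) : z i ∈ V := by
  rw [h.gen]; exact subset_closure ⟨i, rfl⟩

theorem comm_mem {a b : G} (ha : a ∈ V) (hb : b ∈ V) : a * b = b * a := by
  have h1 : ∀ x ∈ V, ∀ i, x * z i = z i * x := by
    intro x hx i
    rw [h.gen] at hx
    induction hx using closure_induction with
    | mem x hx => obtain ⟨j, rfl⟩ := hx; exact h.comm j i
    | one => simp
    | mul x y _ _ hx hy => rw [mul_assoc, hy, ← mul_assoc, hx, mul_assoc]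
    | inv x _ hx => exact Commute.inv_left hx
  rw [h.gen] at hb
  induction hb using closure_induction with
  | mem x hx => obtain ⟨j, rfl⟩ := hx; exact h1 a ha j
  | one => simp
  | mul x y _ _ hx hy => rw [← mul_assoc, hx, mul_assoc, hy, mul_assoc]
  | inv x _ hx => exact Commute.inv_right hx

theorem sq_mem {a : G} (ha : a ∈ V) : a * a = 1 := by
  have ha' := ha
  rw [h.gen] at ha
  induction ha using closure_induction with
  | mem x hx => obtain ⟨j, rfl⟩ := hx; exact h.sq j
  | one => simp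
  | mul x y hx1 hy1 hx hy =>
    rw [← h.gen] at hx1 hy1
    calc x * y * (x * y) = x * (y * x) * y := by group
      _ = x * (x * y) * y := by rw [h.comm_mem hy1 hx1]
      _ = (x * x) * (y * y) := by group
      _ = 1 := by rw [hx hx1, hy hy1, one_mul]
  | inv x hx1 hx =>
    rw [← h.gen] at hx1
    rw [← mul_inv_rev, hx hx1, inv_one]

theorem le_centralizer : V ≤ centralizer (V : Set G) :=
  fun _ ha => mem_centralizer_iff.2 fun _ hb => h.comm_mem hb ha

theorem inv_eq (i : Fin 5) : (z i)⁻¹ = z i := inv_eq_of_mul_eq_one_left (h.sq i)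

/-- An element commuting with the points centralises `V`. -/
theorem mem_cent {g : G} (hg : Act z g 1) : g ∈ centralizer (V : Set G) := by
  rw [h.gen, centralizer_closure, mem_centralizer_iff]
  rintro _ ⟨i, rfl⟩
  have := hg i
  rw [Perm.one_apply, mul_inv_eq_iff_eq_mul] at this
  exact this.symm

theorem act_one_of_cent {g : G} (hg : g ∈ centralizer (V : Set G)) : Act z g 1 := fun i => by
  rw [Perm.one_apply, mul_inv_eq_iff_eq_mul]
  exact ((mem_centralizer_iff.1 hg) _ (h.mem i)).symm

/-- Fixing a point is the same as commuting with it. -/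
theorem fix_iff {g : G} {σ : Perm (Fin 5)} (hg : Act z g σ) (i : Fin 5) : g * z i = z i * g ↔ σ i = i := by
  rw [← mul_inv_eq_iff_eq_mul, hg i]
  exact h.inj.eq_iff

theorem four_eq : z 4 = z 0 * z 1 * z 2 * z 3 := by
  rw [← inv_eq_of_mul_eq_one_right h.prod]
  have h1 : z 0 * z 1 * z 2 * z 3 ∈ V := mul_mem (mul_mem (mul_mem (h.mem 0) (h.mem 1)) (h.mem 2)) (h.mem 3)
  exact inv_eq_of_mul_eq_one_left (h.sq_mem h1)

/-- All points are nontrivial. -/
theorem ne_one (i : Fin 5) : z i ≠ 1 := by
  intro hi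
  -- any other point is conjugate to `z i`
  have key : ∀ j, z j = 1 := by
    intro j
    obtain ⟨σ, hσ, hσi⟩ := exists_alt_move i j
    obtain ⟨g, -, hg⟩ := h.alt σ hσ
    have := hg i
    rw [hi, hσi] at this
    rw [← this]; group
  have := h.inj ((key 0).trans (key 1).symm)
  exact absurd this (by decide)

/-- The points as elements of `V`. -/
def zV (i : Fin 5) : V := ⟨z i, h.mem i⟩

/-- `V` is a commutative group. -/
@[reducible] def cg : CommGroup V :=
  { (inferInstance : Group V) with mul_comm := fun a b => Subtype.ext (h.comm_mem a.2 b.2) }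

/-- The element of `V` given by a set of points. -/
def ev (s : Finset (Fin 5)) : G :=
  letI := h.cg
  ((∏ i : Fin 5, (if i ∈ s then h.zV i else 1) : V) : G)

theorem ev_mem (s : Finset (Fin 5)) : h.ev s ∈ V := SetLike.coe_mem _

theorem ev_empty : h.ev ∅ = 1 := by simp [ev]

theorem ev_singleton (i : Fin 5) : h.ev {i} = z i := by
  letI := h.cg
  have e : (∏ j : Fin 5, (if j ∈ ({i} : Finset (Fin 5)) then h.zV j else 1) : V) = h.zV i := by
    rw [Finset.prod_eq_single i]
    · simp
    · intro j _ hj; simp [hj]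
    · intro hi; exact absurd (Finset.mem_univ i) hi
  exact congrArg Subtype.val e

theorem ev_mul (s t : Finset (Fin 5)) : h.ev s * h.ev t = h.ev (symmDiff s t) := by
  letI := h.cg
  have hsq : ∀ i, h.zV i * h.zV i = 1 := fun i => Subtype.ext (h.sq i)
  have e : (∏ i : Fin 5, (if i ∈ s then h.zV i else 1) : V) * (∏ i : Fin 5, (if i ∈ t then h.zV i else 1) : V) =
      (∏ i : Fin 5, (if i ∈ symmDiff s t then h.zV i else 1) : V) := by
    rw [← Finset.prod_mul_distrib]
    refine Finset.prod_congr rfl fun i _ => ?_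
    by_cases h1 : i ∈ s <;> by_cases h2 : i ∈ t <;> simp [Finset.mem_symmDiff, h1, h2, hsq]
  exact congrArg Subtype.val e

theorem ev_univ : h.ev Finset.univ = 1 := by
  letI := h.cg
  have e : (∏ i : Fin 5, (if i ∈ (Finset.univ : Finset (Fin 5)) then h.zV i else 1) : V) = 1 := by
    simp only [Finset.mem_univ, if_true]
    rw [Fin.prod_univ_five]
    exact Subtype.ext h.prod
  exact congrArg Subtype.val e

theorem ev_compl (s : Finset (Fin 5)) : h.ev sᶜ = h.ev s := by
  have h1 := h.ev_mul s Finset.univ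
  rw [h.ev_univ, mul_one] at h1
  have h2 : symmDiff s Finset.univ = sᶜ := by
    ext i; simp [Finset.mem_symmDiff]
  rw [h2] at h1
  exact h1.symm

theorem ev_conj {g : G} {σ : Perm (Fin 5)} (hg : Act z g σ) (s : Finset (Fin 5)) :
    g * h.ev s * g⁻¹ = h.ev (s.map σ.toEmbedding) := by
  letI := h.cg
  have hgV : ∀ v ∈ V, g * v * g⁻¹ ∈ V := by
    intro v hv
    rw [h.gen] at hv ⊢
    induction hv using closure_induction with
    | mem x hx => obtain ⟨i, rfl⟩ := hx; rw [hg i]; exact subset_closure ⟨_, rfl⟩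
    | one => simp
    | mul x y _ _ hx hy =>
      have e : g * (x * y) * g⁻¹ = (g * x * g⁻¹) * (g * y * g⁻¹) := by group
      rw [e]; exact mul_mem hx hy
    | inv x _ hx =>
      have e : g * x⁻¹ * g⁻¹ = (g * x * g⁻¹)⁻¹ := by group
      rw [e]; exact inv_mem hx
  let c : V →* V :=
    { toFun := fun v => ⟨g * v * g⁻¹, hgV v v.2⟩
      map_one' := Subtype.ext (by simp)
      map_mul' := fun a b => Subtype.ext (by simp) }
  have e : c (∏ i : Fin 5, (if i ∈ s then h.zV i else 1)) =
      (∏ i : Fin 5, (if i ∈ s.map σ.toEmbedding then h.zV i else 1) : V) := by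
    rw [map_prod]
    refine Eq.trans ?_ (Equiv.prod_comp σ (fun i => if i ∈ s.map σ.toEmbedding then h.zV i else 1))
    refine Finset.prod_congr rfl fun i _ => ?_
    have h2 : σ i ∈ s.map σ.toEmbedding ↔ i ∈ s := by simp
    by_cases hi : i ∈ s
    · simp only [if_pos hi, if_pos (h2.2 hi)]
      exact Subtype.ext (hg i)
    · simp only [if_neg hi, if_neg (fun h3 => hi (h2.1 h3)), map_one]
  exact congrArg Subtype.val e

theorem exists_ev {v : G} (hv : v ∈ V) : ∃ s, v = h.ev s := by
  have hv' := hv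
  rw [h.gen] at hv'
  induction hv' using closure_induction with
  | mem x hx => obtain ⟨i, rfl⟩ := hx; exact ⟨{i}, (h.ev_singleton i).symm⟩
  | one => exact ⟨∅, h.ev_empty.symm⟩
  | mul x y hx1 hy1 hx hy =>
    rw [← h.gen] at hx1 hy1
    obtain ⟨s, rfl⟩ := hx hx1
    obtain ⟨t, rfl⟩ := hy hy1
    exact ⟨_, h.ev_mul s t⟩
  | inv x hx1 hx =>
    rw [← h.gen] at hx1
    obtain ⟨s, rfl⟩ := hx hx1
    exact ⟨s, inv_eq_of_mul_eq_one_left (h.sq_mem hx1)⟩

theorem ev_eq_one {s : Finset (Fin 5)} : h.ev s = 1 ↔ s = ∅ ∨ s = Finset.univ := by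
  constructor
  · have hd : ∀ s : Finset (Fin 5), s = ∅ ∨ s = Finset.univ ∨ (∃ i, s = {i}) ∨ (∃ i, sᶜ = {i}) ∨
        (∃ i j, i ≠ j ∧ s = symmDiff {i} {j}) ∨ (∃ i j, i ≠ j ∧ sᶜ = symmDiff {i} {j}) := by decide
    intro h1
    have h2 : ∀ i j, i ≠ j → h.ev (symmDiff {i} {j}) ≠ 1 := by
      intro i j hij e
      rw [← h.ev_mul, h.ev_singleton, h.ev_singleton] at e
      have := eq_inv_of_mul_eq_one_left e
      rw [h.inv_eq] at this
      exact hij (h.inj this)
    rcases hd s with h3 | h3 | ⟨i, h3⟩ | ⟨i, h3⟩ | ⟨i, j, hij, h3⟩ | ⟨i, j, hij, h3⟩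
    · exact Or.inl h3
    · exact Or.inr h3
    · rw [h3, h.ev_singleton] at h1
      exact absurd h1 (h.ne_one i)
    · rw [← h.ev_compl, h3, h.ev_singleton] at h1
      exact absurd h1 (h.ne_one i)
    · rw [h3] at h1
      exact absurd h1 (h2 i j hij)
    · rw [← h.ev_compl, h3] at h1
      exact absurd h1 (h2 i j hij)
  · rintro (rfl | rfl)
    · exact h.ev_empty
    · exact h.ev_univ

theorem ev_inj {s t : Finset (Fin 5)} : h.ev s = h.ev t ↔ s = t ∨ s = tᶜ := by
  have h1 : h.ev s = h.ev t ↔ h.ev (symmDiff s t) = 1 := by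
    rw [← h.ev_mul]
    constructor
    · intro e; rw [e, h.sq_mem (h.ev_mem t)]
    · intro e
      have := eq_inv_of_mul_eq_one_left e
      rw [inv_eq_of_mul_eq_one_left (h.sq_mem (h.ev_mem t))] at this
      exact this
  rw [h1, h.ev_eq_one]
  refine or_congr symmDiff_eq_bot ?_
  constructor
  · intro e
    ext i
    have := congrArg (i ∈ ·) e
    simp only [Finset.mem_symmDiff, Finset.mem_univ, eq_iff_iff, iff_true] at this
    rw [Finset.mem_compl]
    tauto
  · rintro rfl
    ext i
    simp only [Finset.mem_symmDiff, Finset.mem_univ, Finset.mem_compl]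
    tauto

end

end Pts

end Cfsg.Agent.Omega.TT
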