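import Cfsg.Agent.Omega.TT.Frame

/-!
# Theorem E, steps (1)-(4): `W` induces the four-group, the groups `B_k` commute (helper492)
-/

set_option autoImplicit false

namespace Cfsg.Agent.Omega.TT

open Subgroup Cfsg.Agent.ZN Equiv Cfsg.Agent.MinSimple.MinParabolic Cfsg.Agent.MinSimple.VModule
open Cfsg.Agent.MinSimple.Basic

universe u

variable {G : Type u} [Group G] {V : Subgroup G} {z : Fin 5 → G} {S : Subgroup G}

/-- `k x k⁻¹ = r x`, `[k, r] = 1` implies `kᵐ x k⁻ᵐ = rᵐ x`. -/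
theorem pow_fix {k x r : G} (h1 : k * x * k⁻¹ = r * x) (h2 : k * r = r * k) (m : ℕ) :
    k ^ m * x * (k ^ m)⁻¹ = r ^ m * x := by
  induction m with
  | zero => simp
  | succ m ih =>
    have h3 : k * r ^ m * k⁻¹ = r ^ m := by
      rw [mul_inv_eq_iff_eq_mul]
      exact (Commute.pow_right (show Commute k r from h2) m).eq
    calc k ^ (m + 1) * x * (k ^ (m + 1))⁻¹ = k * (k ^ m * x * (k ^ m)⁻¹) * k⁻¹ := by
          rw [pow_succ']; group
      _ = k * (r ^ m * x) * k⁻¹ := by rw [ih]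
      _ = (k * r ^ m * k⁻¹) * (k * x * k⁻¹) := by group
      _ = r ^ m * (r * x) := by rw [h3, h1]
      _ = _ := by rw [pow_succ]; group

/-- A 2-subgroup has an exponent which is a power of 2. -/
theorem exists_exp [Finite G] {R : Subgroup G} (hR : IsPGroup 2 R) : ∃ n : ℕ, ∀ r ∈ R, r ^ 2 ^ n = 1 := by
  have : Fact (Nat.Prime 2) := ⟨Nat.prime_two⟩
  obtain ⟨n, hn⟩ := IsPGroup.iff_card.1 hR
  refine ⟨n, fun r hr => ?_⟩
  rw [← hn]
  have := pow_card_eq_one' (x := (⟨r, hr⟩ : R))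
  exact congrArg Subtype.val this

theorem isPGroup_of_pow {K : Subgroup G} (h : ∀ k ∈ K, ∃ n : ℕ, k ^ 2 ^ n = 1) : IsPGroup 2 K := by
  intro k
  obtain ⟨n, hn⟩ := h k k.2
  exact ⟨n, Subtype.ext (by simpa using hn)⟩

/-- Stability. -/
theorem stab [Finite G] {C K R : Subgroup G} (hC : C ⊓ centralizer (o2 C : Set G) ≤ o2 C) (hK : K ≤ C)
    (hn : C ≤ normalizer (K : Set G)) (hR : IsPGroup 2 R) (h1 : ∀ k ∈ K, ∀ q ∈ o2 C, k * q * k⁻¹ * q⁻¹ ∈ R)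
    (h2 : ∀ k ∈ K, ∀ r ∈ R, k * r = r * k) : K ≤ o2 C := by
  refine le_o2 hK (isPGroup_of_pow fun k hk => ?_) hn
  obtain ⟨n, hn⟩ := exists_exp hR
  obtain ⟨m, hm⟩ := exists_exp (o2_isPGroup C)
  have h3 : k ^ 2 ^ n ∈ o2 C := by
    refine hC ⟨pow_mem (hK hk) _, mem_centralizer_iff.2 fun q hq => ?_⟩
    have e1 : k * q * k⁻¹ = (k * q * k⁻¹ * q⁻¹) * q := by group
    have h4 := pow_fix e1 (h2 k hk _ (h1 k hk q hq)) (2 ^ n)
    rw [hn _ (h1 k hk q hq), one_mul, mul_inv_eq_iff_eq_mul] at h4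
    exact h4.symm
  refine ⟨n + m, ?_⟩
  rw [pow_add, pow_mul]
  exact hm _ h3

namespace Hyp

variable (h : Hyp V z S)

include h

theorem z_mem_Q : z 4 ∈ qq z 4 := by
  have h1 := mul_mem (h.pr_mem_Q (i := 0) (j := 1) (by decide) (by decide))
    (h.pr_mem_Q (i := 2) (j := 3) (by decide) (by decide))
  have e : z 0 * z 1 * (z 2 * z 3) = z 4 := by rw [h.pts.four_eq]; group
  rwa [e] at h1

theorem Q_comm_z {q : G} (hq : q ∈ qq z 4) : q * z 4 = z 4 * q := mem_cc.1 (o2_le _ hq)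

theorem ev_pr (i j : Fin 5) : z i * z j = h.pts.ev (symmDiff {i} {j}) := by
  rw [← h.pts.ev_mul, h.pts.ev_singleton, h.pts.ev_singleton]

set_option maxRecDepth 40000 in
omit [Group G] h in
theorem pr_dec : ∀ σ ∈ ([1, swap 0 1 * swap 2 3, swap 0 2 * swap 1 3,
      swap 0 3 * swap 1 2] : List (Perm (Fin 5))), ∀ i j : Fin 5, i ≠ 4 → j ≠ 4 → 
      (((symmDiff {i} {j} : Finset (Fin 5)).map σ.toEmbedding = symmDiff {i} {j} ∨
        (symmDiff {i} {j} : Finset (Fin 5)).map σ.toEmbedding = (symmDiff {i} {j})ᶜ) ∨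
      ((symmDiff {i} {j} : Finset (Fin 5)).map σ.toEmbedding = symmDiff (symmDiff {i} {j}) {4} ∨
        (symmDiff {i} {j} : Finset (Fin 5)).map σ.toEmbedding = (symmDiff (symmDiff {i} {j}) {4})ᶜ)) := by
  decide

/-- (d) for the generators -/
theorem pr_conj {q : G} (hq : q ∈ qq z 4) {i j : Fin 5} (hi : i ≠ 4) (hj : j ≠ 4) :
    q * (z i * z j) * q⁻¹ = z i * z j ∨ q * (z i * z j) * q⁻¹ = z i * z j * z 4 := by
  obtain ⟨σ, hσ, hqσ⟩ := h.Q_four hq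
  rw [h.ev_pr, h.pts.ev_conj hqσ]
  have e4 : z 4 = h.pts.ev {4} := (h.pts.ev_singleton 4).symm
  conv in _ * z 4 => rw [e4]
  rw [h.pts.ev_mul, h.pts.ev_inj, h.pts.ev_inj]
  refine pr_dec σ ?_ i j hi hj
  rcases hσ with rfl | rfl | rfl | rfl <;> simp

/-- (d), (e): `[W, Q] ≤ ⟨z⟩`. -/
theorem W_conj {q w : G} (hq : q ∈ qq z 4) (hw : w ∈ ww z 4) :
    q * w * q⁻¹ = w ∨ q * w * q⁻¹ = w * z 4 := by
  have hzz : z 4 * z 4 = 1 := h.pts.sq 4
  rw [ww] at hw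
  induction hw using closure_induction generalizing q with
  | mem x hx =>
    obtain ⟨c, hc, i, j, hi, hj, rfl⟩ := hx
    have hq' : c⁻¹ * q * c⁻¹⁻¹ ∈ qq z 4 := conj_mem_o2 (inv_mem hc) hq
    have hcz : z 4 * c⁻¹ = c⁻¹ * z 4 := (mem_cc.1 (inv_mem hc)).symm
    have e : q * (c * (z i * z j) * c⁻¹) * q⁻¹ =
        c * ((c⁻¹ * q * c⁻¹⁻¹) * (z i * z j) * (c⁻¹ * q * c⁻¹⁻¹)⁻¹) * c⁻¹ := by group
    rcases h.pr_conj hq' hi hj with h1 | h1
    · left; rw [e, h1]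
    · right; rw [e, h1]
      calc c * (z i * z j * z 4) * c⁻¹ = c * (z i * z j) * (z 4 * c⁻¹) := by group
        _ = _ := by rw [hcz]; group
  | one => left; simp
  | mul x y hx1 hy1 hx hy =>
    have hyz : z 4 * y = y * z 4 := (h.Q_comm_z (h.ww_le_Q hy1)).symm
    have e : q * (x * y) * q⁻¹ = (q * x * q⁻¹) * (q * y * q⁻¹) := by group
    rcases hx hq with h1 | h1 <;> rcases hy hq with h2 | h2
    · left; rw [e, h1, h2]
    · right; rw [e, h1, h2]; group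
    · right; rw [e, h1, h2, mul_assoc, hyz]; group
    · left; rw [e, h1, h2]
      calc x * z 4 * (y * z 4) = x * (z 4 * y) * z 4 := by group
        _ = x * y * (z 4 * z 4) := by rw [hyz]; group
        _ = x * y := by rw [hzz, mul_one]
  | inv x hx1 hx =>
    have hxz : z 4 * x = x * z 4 := (h.Q_comm_z (h.ww_le_Q hx1)).symm
    have e : q * x⁻¹ * q⁻¹ = (q * x * q⁻¹)⁻¹ := by group
    rcases hx hq with h1 | h1
    · left; rw [e, h1]
    · right; rw [e, h1, ← hxz, mul_inv_rev, h.pts.inv_eq]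

/-- (f) -/
theorem V_conj {q v : G} (hq : q ∈ qq z 4) (hv : v ∈ V) : q * v * q⁻¹ * v⁻¹ ∈ ww z 4 := by
  obtain ⟨σ, hσ, hqσ⟩ := h.Q_four hq
  have h4 : σ 4 = 4 := by rcases hσ with rfl | rfl | rfl | rfl <;> decide
  have hv' := hv
  rw [h.pts.gen] at hv'
  induction hv' using closure_induction with
  | mem x hx =>
    obtain ⟨i, rfl⟩ := hx
    rw [hqσ i, h.pts.inv_eq]
    by_cases hi : i = 4
    · rw [hi, h4, h.pts.sq]; exact one_mem _
    · exact pr_mem_ww (fun e => hi (σ.injective (e.trans h4.symm))) hi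
  | one => simp
  | mul x y hx1 hy1 hx hy =>
    rw [← h.pts.gen] at hx1 hy1
    have e : q * (x * y) * q⁻¹ * (x * y)⁻¹ = (q * x * q⁻¹ * x⁻¹) * (x * (q * y * q⁻¹ * y⁻¹) * x⁻¹) := by group
    rw [e]
    exact mul_mem (hx hx1) (conj_ww (h.Vcc 4 hx1) (hy hy1))
  | inv x hx1 hx =>
    rw [← h.pts.gen] at hx1
    have e : x⁻¹ = x := inv_eq_of_mul_eq_one_left (h.pts.sq_mem hx1)
    rw [e]
    exact hx hx1

theorem Y_le_C : yy V z 4 ≤ cc z 4 := by
  rw [yy, closure_le]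
  rintro _ ⟨c, hc, v, hv, rfl⟩
  exact mul_mem (mul_mem hc (h.Vcc 4 hv)) (inv_mem hc)

theorem V_le_Y : V ≤ yy V z 4 := fun v hv => subset_closure ⟨1, one_mem _, v, hv, by group⟩

omit h in
theorem conj_yy {k : Fin 5} {c x : G} (hc : c ∈ cc z k) (hx : x ∈ yy V z k) : c * x * c⁻¹ ∈ yy V z k := by
  rw [yy] at hx ⊢
  induction hx using closure_induction with
  | mem x hx =>
    obtain ⟨d, hd, v, hv, rfl⟩ := hx
    exact subset_closure ⟨c * d, mul_mem hc hd, v, hv, by group⟩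
  | one => simp
  | mul x y _ _ hx hy =>
    have e : c * (x * y) * c⁻¹ = (c * x * c⁻¹) * (c * y * c⁻¹) := by group
    rw [e]; exact mul_mem hx hy
  | inv x _ hx =>
    have e : c * x⁻¹ * c⁻¹ = (c * x * c⁻¹)⁻¹ := by group
    rw [e]; exact inv_mem hx

theorem Y_conj {q y : G} (hq : q ∈ qq z 4) (hy : y ∈ yy V z 4) : y * q * y⁻¹ * q⁻¹ ∈ ww z 4 := by
  have hyY := hy
  rw [yy] at hy
  induction hy using closure_induction generalizing q with
  | mem x hx =>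
    obtain ⟨c, hc, v, hv, rfl⟩ := hx
    have hq' : c⁻¹ * q * c⁻¹⁻¹ ∈ qq z 4 := conj_mem_o2 (inv_mem hc) hq
    have h1 := conj_ww hc (inv_mem (h.V_conj hq' hv))
    have e : c * (c⁻¹ * q * c⁻¹⁻¹ * v * (c⁻¹ * q * c⁻¹⁻¹)⁻¹ * v⁻¹)⁻¹ * c⁻¹ =
        c * v * c⁻¹ * q * (c * v * c⁻¹)⁻¹ * q⁻¹ := by group
    rwa [e] at h1
  | one => simp
  | mul x y hx1 hy1 hx hy =>
    have hx' := hx hq hx1
    have hy' := conj_ww (h.Y_le_C hx1) (hy hq hy1)
    have e : x * y * q * (x * y)⁻¹ * q⁻¹ = (x * (y * q * y⁻¹ * q⁻¹) * x⁻¹) * (x * q * x⁻¹ * q⁻¹) := by group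
    rw [e]
    exact mul_mem hy' hx'
  | inv x hx1 hx =>
    have hx' := conj_ww (inv_mem (h.Y_le_C hx1)) (inv_mem (hx hq hx1))
    have e : x⁻¹ * (x * q * x⁻¹ * q⁻¹)⁻¹ * x⁻¹⁻¹ = x⁻¹ * q * x⁻¹⁻¹ * q⁻¹ := by group
    rwa [e] at hx'

variable [Finite G]

theorem W_not_le : ¬ ww z 4 ≤ centralizer (V : Set G) := by
  intro hle
  refine h.not_le (h.V_le_Y.trans ?_)
  have hn : cc z 4 ≤ normalizer (yy V z 4 : Set G) := norm_iff fun g hg x hx => conj_yy hg hx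
  refine stab h.char2_cc h.Y_le_C hn ((o2_isPGroup (cc z 4)).to_le h.ww_le_Q)
    (fun k hk q hq => h.Y_conj hq hk) fun k hk r hr => ?_
  rw [yy] at hk
  induction hk using closure_induction generalizing r with
  | mem x hx =>
    obtain ⟨c, hc, v, hv, rfl⟩ := hx
    have h1 := conj_ww (inv_mem hc) hr
    have h2 := mem_centralizer_iff.1 (hle h1) v hv
    calc c * v * c⁻¹ * r = c * (v * (c⁻¹ * r * c⁻¹⁻¹)) * c⁻¹ := by group
      _ = c * ((c⁻¹ * r * c⁻¹⁻¹) * v) * c⁻¹ := by rw [h2]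
      _ = _ := by group
  | one => simp
  | mul x y _ _ hx hy => rw [mul_assoc, hy r hr, ← mul_assoc, hx r hr, mul_assoc]
  | inv x _ hx => exact Commute.inv_left (hx r hr)

theorem exists_W {σ : Perm (Fin 5)} (hσ : IsFour σ) : ∃ w ∈ ww z 4, Act z w σ :=
  (h.four_of ((o2_isPGroup (cc z 4)).to_le h.ww_le_Q) (h.ww_le_Q.trans h.Q_le_L)
    (h.ww_le_Q.trans (o2_le _)) (fun _ _ hx _ hy => conj_ww hx hy)).2 h.W_not_le σ hσ

end Hyp

end Cfsg.Agent.Omega.TT
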